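import Groth.Agent.DepthRel.SyzAlg
import Groth.Agent.AmpleVan.AffineCrit
import Groth.Agent.AmpleX.Separated
import Groth.Agent.HomShX.Prec
import Groth.Agent.ExtShX.TensorInjective
import Groth.Agent.Codepth5.Scheme
import Groth.Agent.QCoh.HHExact
import Groth.Agent.Lib.CurveVanish
import Groth.Agent.PnCoh.Finite.SerreVanishing
import Groth.Agent.PerfLocus7.RelTor
import Groth.Agent.ZClosLib.Basic
import Groth.Agent.SheafHomX.Coherent
import Groth.Agent.QCoh.Stalk
import Groth.Agent.PerfGen7.ResDescend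

/-!
# Negative twists of modules flat over the base with bounded fibre projective dimension
-/

set_option autoImplicit false
set_option linter.style.haveILetI false
set_option backward.isDefEq.respectTransparency false
set_option backward.isDefEq.respectTransparency.types false

universe u

open CategoryTheory CategoryTheory.Limits AlgebraicGeometry TopologicalSpace Opposite MonoidalCategory IsLocalRing
open Groth.Agent.H23.PicMul

attribute [local instance] Groth.Agent.QCoh.hasFiniteBiproducts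

noncomputable section

namespace Groth.Agent.DepthRel

open Groth.Agent Groth.Agent.AmpleVan

variable {X S : Scheme.{u}}

/-- The fibre modules at closed points have projective dimension less than `j`. -/
def FibPd (f : X ⟶ S) (G : X.Modules) (j : ℕ) : Prop :=
  ∀ x : X, IsClosed ({x} : Set X) → HasProjectiveDimensionLT
    (ModuleCat.of (X.presheaf.stalk x ⧸ Codepth5.fibIdeal f x)
      (G.presheaf.stalk x ⧸ Codepth5.fibIdeal f x • (⊤ : Submodule (X.presheaf.stalk x) (G.presheaf.stalk x)))) j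

theorem isFinLocFree_of_fibPd [IsLocallyNoetherian X] [CompactSpace X] (f : X ⟶ S) {G : X.Modules}
    (hG : Coh.IsCoh G) (hflat : FlatMod.IsFlatOver f G) (h : FibPd f G 1) : FlatMod.IsFinLocFree G := by
  intro x
  obtain ⟨y, hy, hy'⟩ := (isClosed_closure (s := ({x} : Set X))).exists_closed_singleton
    ⟨x, subset_closure rfl⟩
  letI : Algebra (S.presheaf.stalk (f y)) (X.presheaf.stalk y) := (f.stalkMap y).hom.toAlgebra
  letI := FlatMod.moduleStalkOver f G y
  haveI : IsScalarTower (S.presheaf.stalk (f y)) (X.presheaf.stalk y) (G.presheaf.stalk y) :=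
    IsScalarTower.of_algebraMap_smul fun _ _ => rfl
  haveI : Module.Flat (S.presheaf.stalk (f y)) (G.presheaf.stalk y) := hflat y
  haveI : IsLocalHom (algebraMap (S.presheaf.stalk (f y)) (X.presheaf.stalk y)) :=
    inferInstanceAs (IsLocalHom (f.stalkMap y).hom)
  haveI : Module.Finite (X.presheaf.stalk y) (G.presheaf.stalk y) := QCoh.finite_stalk_of_isFT hG.1 hG.2 y
  haveI : Module.FinitePresentation (X.presheaf.stalk y) (G.presheaf.stalk y) :=
    Module.finitePresentation_of_finite _ _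
  haveI : Module.Free (X.presheaf.stalk y) (G.presheaf.stalk y) :=
    free_of_pd_red (R := S.presheaf.stalk (f y)) (h y hy')
  obtain ⟨U, n, hyU, hU⟩ := QCoh.exists_free_nhd_of_free_stalk (QCoh.isCoh_iff_isFP.1 hG) y
  exact ⟨U, n, (specializes_iff_mem_closure.2 hy).mem_open U.2 hyU, hU⟩

/-- Flatness and fibre projective dimension along a syzygy. -/
theorem fibPd_syz (f : X ⟶ S) [Flat f] {T : ShortComplex X.Modules} (hT : T.ShortExact)
    (h₂ : FlatMod.IsFinLocFree T.X₂) (h₃ : FlatMod.IsFlatOver f T.X₃) :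
    FlatMod.IsFlatOver f T.X₁ ∧ ∀ j, FibPd f T.X₃ (j + 2) → FibPd f T.X₁ (j + 1) := by
  have hQ := PerfLocus7.isFlatOver_of_isFinLocFree f h₂
  have key : ∀ x : X, Function.Injective (RefHull.stalkMapₗ T.f x) ∧
      Function.Exact (RefHull.stalkMapₗ T.f x) (RefHull.stalkMapₗ T.g x) ∧
      Function.Surjective (RefHull.stalkMapₗ T.g x) := fun x => by
    have h := hT.map_of_exact (DerSch.stalkFunctor X x)
    exact ⟨(ModuleCat.mono_iff_injective _).1 h.mono_f,
      (ShortComplex.ShortExact.moduleCat_exact_iff_function_exact _).1 h.exact,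
      (ModuleCat.epi_iff_surjective _).1 h.epi_g⟩
  refine ⟨fun x => ?_, fun j hj x hx => ?_⟩
  · obtain ⟨hi, hex, hq⟩ := key x
    letI : Algebra (S.presheaf.stalk (f x)) (X.presheaf.stalk x) := (f.stalkMap x).hom.toAlgebra
    letI := FlatMod.moduleStalkOver f T.X₁ x
    letI := FlatMod.moduleStalkOver f T.X₂ x
    letI := FlatMod.moduleStalkOver f T.X₃ x
    haveI : IsScalarTower (S.presheaf.stalk (f x)) (X.presheaf.stalk x) (T.X₁.presheaf.stalk x) :=
      IsScalarTower.of_algebraMap_smul fun _ _ => rfl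
    haveI : IsScalarTower (S.presheaf.stalk (f x)) (X.presheaf.stalk x) (T.X₂.presheaf.stalk x) :=
      IsScalarTower.of_algebraMap_smul fun _ _ => rfl
    haveI : IsScalarTower (S.presheaf.stalk (f x)) (X.presheaf.stalk x) (T.X₃.presheaf.stalk x) :=
      IsScalarTower.of_algebraMap_smul fun _ _ => rfl
    haveI : Module.Flat (S.presheaf.stalk (f x)) (T.X₂.presheaf.stalk x) := hQ x
    haveI : Module.Flat (S.presheaf.stalk (f x)) (T.X₃.presheaf.stalk x) := h₃ x
    exact flat_of_syz _ _ hi hex hq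
  · obtain ⟨hi, hex, hq⟩ := key x
    letI : Algebra (S.presheaf.stalk (f x)) (X.presheaf.stalk x) := (f.stalkMap x).hom.toAlgebra
    letI := FlatMod.moduleStalkOver f T.X₁ x
    letI := FlatMod.moduleStalkOver f T.X₂ x
    letI := FlatMod.moduleStalkOver f T.X₃ x
    haveI : IsScalarTower (S.presheaf.stalk (f x)) (X.presheaf.stalk x) (T.X₁.presheaf.stalk x) :=
      IsScalarTower.of_algebraMap_smul fun _ _ => rfl
    haveI : IsScalarTower (S.presheaf.stalk (f x)) (X.presheaf.stalk x) (T.X₂.presheaf.stalk x) :=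
      IsScalarTower.of_algebraMap_smul fun _ _ => rfl
    haveI : IsScalarTower (S.presheaf.stalk (f x)) (X.presheaf.stalk x) (T.X₃.presheaf.stalk x) :=
      IsScalarTower.of_algebraMap_smul fun _ _ => rfl
    haveI : Module.Flat (S.presheaf.stalk (f x)) (T.X₃.presheaf.stalk x) := h₃ x
    haveI := QCoh.free_stalk_of_isFinLocFree h₂ x
    exact pd_red_of_syz (maximalIdeal (S.presheaf.stalk (f x))) _ _ hi hex hq j (hj x hx)

/-- High negative twists of `E` have no cohomology in degree `p`. -/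
def Van (L' E : X.Modules) (p : ℕ) : Prop :=
  ∃ n₀, ∀ n, n₀ ≤ n → Subsingleton (Coh.HH X (CohB1.tensorMod E (CohB1.tensorPow L' n)) p)

variable {L' : X.Modules}

theorem Van.of_iso {E E' : X.Modules} (e : E ≅ E') {p : ℕ} (h : Van L' E p) : Van L' E' p :=
  h.imp fun _ hn n h' => QCoh.subsingleton_HH_of_iso ((tw (CohB1.tensorPow L' n)).mapIso e) p (hn n h')

theorem twShortExact {T : ShortComplex X.Modules} (hT : T.ShortExact) (hL' : PicF.IsInvertible L') (n : ℕ) :
    haveI := isEquivalence_tw (InvX.isInvertible_tensorPow hL' n)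
    haveI : (tw (CohB1.tensorPow L' n)).Additive := Functor.additive_of_preserves_binary_products _
    (T.map (tw (CohB1.tensorPow L' n))).ShortExact := by
  haveI := isEquivalence_tw (InvX.isInvertible_tensorPow hL' n)
  haveI : (tw (CohB1.tensorPow L' n)).Additive := Functor.additive_of_preserves_binary_products _
  exact hT.map_of_exact _

theorem Van.X₁_succ (hL' : PicF.IsInvertible L') {T : ShortComplex X.Modules} (hT : T.ShortExact) {p : ℕ}
    (h₂ : Van L' T.X₂ (p + 1)) (h₃ : Van L' T.X₃ p) : Van L' T.X₁ (p + 1) := by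
  obtain ⟨a, ha⟩ := h₂
  obtain ⟨b, hb⟩ := h₃
  exact ⟨max a b, fun n hn => CurveVanish.subsingleton_HH_X₁ (twShortExact hT hL' n) p
    (ha n (le_of_max_le_left hn)) (hb n (le_of_max_le_right hn))⟩

theorem Van.X₃ (hL' : PicF.IsInvertible L') {T : ShortComplex X.Modules} (hT : T.ShortExact) {p : ℕ}
    (h₂ : Van L' T.X₂ p) (h₁ : Van L' T.X₁ (p + 1)) : Van L' T.X₃ p := by
  obtain ⟨a, ha⟩ := h₂
  obtain ⟨b, hb⟩ := h₁
  exact ⟨max a b, fun n hn => PnCoh.Finite.subsingleton_HH_X₃ (twShortExact hT hL' n) p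
    (ha n (le_of_max_le_left hn)) (hb n (le_of_max_le_right hn))⟩

theorem Van.of_mono (hL' : PicF.IsInvertible L') {E F : X.Modules} (i : E ⟶ F) [Mono i]
    (h : Van L' F 0) : Van L' E 0 := by
  refine h.imp fun a ha n hn => ?_
  haveI := isEquivalence_tw (InvX.isInvertible_tensorPow hL' n)
  let T := tw (CohB1.tensorPow L' n)
  have hF : ∀ a b : Γ(T.obj F, ⊤), a = b := fun a b => by
    let ε := Sheaf.H.equiv₀ (Coh.toAb (T.obj F)) isTerminalTop
    exact ε.symm.injective (@Subsingleton.elim _ (ha n hn) (ε.symm a) (ε.symm b))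
  refine ⟨fun x y => (Sheaf.H.equiv₀ (Coh.toAb (T.obj E)) isTerminalTop).injective ?_⟩
  exact ZClosLib.app_injective_of_mono (T.map i) ⊤ (hF _ _)

theorem Van.of_decomposition (hL' : PicF.IsInvertible L') {E : X.Modules} {ι : Type} [Fintype ι]
    (P : ι → X.Modules) (s : ∀ j, E ⟶ P j) (r : ∀ j, P j ⟶ E) (h : ∑ j, s j ≫ r j = 𝟙 E) {p : ℕ}
    (hP : ∀ j, Van L' (P j) p) : Van L' E p := by
  classical
  choose a ha using hP
  refine ⟨Finset.univ.sup a, fun n hn => ?_⟩
  haveI := isEquivalence_tw (InvX.isInvertible_tensorPow hL' n)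
  let T := tw (CohB1.tensorPow L' n)
  haveI : T.Additive := Functor.additive_of_preserves_binary_products _
  refine PnCoh.Finite.subsingleton_HH_of_decomposition (fun j => T.obj (P j)) (fun j => T.map (s j))
    (fun j => T.map (r j)) ?_ p fun j => ha j n ((Finset.le_sup (Finset.mem_univ j)).trans hn)
  simp only [← T.map_comp, ← T.map_sum, h, T.map_id]

theorem stalkMapₗ_add {E F : X.Modules} (φ ψ : E ⟶ F) (x : X) :
    RefHull.stalkMapₗ (φ + ψ) x = RefHull.stalkMapₗ φ x + RefHull.stalkMapₗ ψ x := by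
  have h := congrArg ModuleCat.Hom.hom ((DerSch.stalkFunctor X x).map_add (f := φ) (g := ψ))
  exact h

theorem prec_add (G : X.Modules) {E F : X.Modules} (φ ψ : E ⟶ F) :
    HomShX.prec G (φ + ψ) = HomShX.prec G φ + HomShX.prec G ψ := by
  ext U g
  refine RefX.sect_ext fun x => ?_
  show (g.1 x).comp (RefHull.stalkMapₗ (φ + ψ) x.1) =
    (g.1 x).comp (RefHull.stalkMapₗ φ x.1) + (g.1 x).comp (RefHull.stalkMapₗ ψ x.1)
  rw [stalkMapₗ_add, LinearMap.comp_add]

theorem prec_sum {E : X.Modules} {ι : Type} [Fintype ι] (P : ι → X.Modules) (s : ∀ j, E ⟶ P j)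
    (r : ∀ j, P j ⟶ E) (h : ∑ j, s j ≫ r j = 𝟙 E) (G : X.Modules) :
    ∑ j, HomShX.prec G (r j) ≫ HomShX.prec G (s j) = 𝟙 (RefHull.homSh E G) := by
  let Φ : (E ⟶ E) →+ (RefHull.homSh E G ⟶ RefHull.homSh E G) :=
    AddMonoidHom.mk' (fun φ => HomShX.prec G φ) (prec_add G)
  have h1 : Φ (∑ j, s j ≫ r j) = ∑ j, Φ (s j ≫ r j) := map_sum Φ _ _
  have h2 : ∀ j, Φ (s j ≫ r j) = HomShX.prec G (r j) ≫ HomShX.prec G (s j) := fun j => by
    show HomShX.prec G (s j ≫ r j) = _
    ext U g
    refine RefX.sect_ext fun x => ?_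
    show (g.1 x).comp (RefHull.stalkMapₗ (s j ≫ r j) x.1) =
      ((g.1 x).comp (RefHull.stalkMapₗ (r j) x.1)).comp (RefHull.stalkMapₗ (s j) x.1)
    rw [HomShX.stalkMapₗ_comp, LinearMap.comp_assoc]
  have h3 : Φ (𝟙 E) = 𝟙 _ := by
    show HomShX.prec G (𝟙 E) = _
    ext U g
    refine RefX.sect_ext fun x => ?_
    show (g.1 x).comp (RefHull.stalkMapₗ (𝟙 E) x.1) = g.1 x
    rw [HomShX.stalkMapₗ_id, LinearMap.comp_id]
  rw [h, h3] at h1
  simp only [h2] at h1
  exact h1.symm

variable {L : X.Modules}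

theorem van_dual_twSum (hL' : PicF.IsInvertible L') (m c : ℕ) {p : ℕ}
    (h : Van L' (RefHull.dual (CohB1.tensorPow L' m)) p) :
    Van L' (RefHull.dual (twSum (CohB1.tensorPow L' m) c)) p := by
  haveI := isEquivalence_tw (InvX.isInvertible_tensorPow hL' m)
  let T := tw (CohB1.tensorPow L' m)
  haveI : T.Additive := Functor.additive_of_preserves_binary_products _
  let B := fun _ : Fin c => Coh.structureModule X
  obtain ⟨u⟩ : Nonempty (T.obj (Coh.structureModule X) ≅ CohB1.tensorPow L' m) := cl_eq_iff.1 (by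
    show PicF.cl (CohB1.tensorMod (Coh.structureModule X) _) = _
    rw [cl_tensor, ← one_def, one_mul])
  refine Van.of_decomposition hL' (fun _ : Fin c => RefHull.dual (CohB1.tensorPow L' m))
    (fun j => HomShX.prec _ (u.inv ≫ T.map (biproduct.ι B j)))
    (fun j => HomShX.prec _ (T.map (biproduct.π B j) ≫ u.hom))
    (prec_sum (fun _ => CohB1.tensorPow L' m) (fun j => T.map (biproduct.π B j) ≫ u.hom)
      (fun j => u.inv ≫ T.map (biproduct.ι B j)) ?_ _) fun _ => h
  simp only [Category.assoc, Iso.hom_inv_id_assoc, ← T.map_comp, ← T.map_sum, biproduct.total, T.map_id]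

theorem van_twSum (hL' : PicF.IsInvertible L') (m c : ℕ) {p : ℕ}
    (h : Van L' (CohB1.tensorPow L' m) p) : Van L' (twSum (CohB1.tensorPow L' m) c) p := by
  haveI := isEquivalence_tw (InvX.isInvertible_tensorPow hL' m)
  let T := tw (CohB1.tensorPow L' m)
  haveI : T.Additive := Functor.additive_of_preserves_binary_products _
  let B := fun _ : Fin c => Coh.structureModule X
  obtain ⟨u⟩ : Nonempty (T.obj (Coh.structureModule X) ≅ CohB1.tensorPow L' m) := cl_eq_iff.1 (by
    show PicF.cl (CohB1.tensorMod (Coh.structureModule X) _) = _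
    rw [cl_tensor, ← one_def, one_mul])
  refine Van.of_decomposition hL' (fun _ : Fin c => CohB1.tensorPow L' m)
    (fun j => T.map (biproduct.π B j) ≫ u.hom) (fun j => u.inv ≫ T.map (biproduct.ι B j)) ?_ fun _ => h
  simp only [Category.assoc, Iso.hom_inv_id_assoc, ← T.map_comp, ← T.map_sum, biproduct.total, T.map_id]

variable [IsLocallyNoetherian X]

/-- Every coherent module is a quotient of a sum of negative twists. -/
theorem exists_twSum_epi (hL : CohB1.IsAmple L) (hL' : PicF.IsInvertible L')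
    (hinv : PicF.cl L * PicF.cl L' = 1) {G : X.Modules} (hG : Coh.IsCoh G) :
    ∃ (m c : ℕ) (q : twSum (CohB1.tensorPow L' m) c ⟶ G), Epi q := by
  haveI : CompactSpace X := hL.2.1
  haveI := AmpleX.isSeparated_of_isAmple hL
  obtain ⟨m, hm⟩ := AmpleX.eventually_generated hL hG.1 hG.2
  obtain ⟨G', φ, ι, s, hs⟩ := hm m le_rfl
  have hG' : Coh.IsCoh G' := SheafHomX.isCoh_of_iso φ.symm
    (AmpleVan.isCoh_tensor hG (AmpleVan.isCoh_invertible (InvX.isInvertible_tensorPow hL.1 m)))
  obtain ⟨c, f, hf⟩ := exists_fin_generatedBy hG' s hs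
  obtain ⟨g, hg⟩ := InvX.exists_epi_freeMod hf
  let P := CohB1.tensorPow L' m
  haveI := isEquivalence_tw (InvX.isInvertible_tensorPow hL' m)
  obtain ⟨ψ⟩ : Nonempty ((tw P).obj G' ≅ G) := cl_eq_iff.1 (by
    show PicF.cl (CohB1.tensorMod G' P) = _
    rw [cl_tensor, cl_eq_iff.2 ⟨φ⟩, cl_tensor, cl_tensorPow, cl_tensorPow, mul_assoc, ← mul_pow, hinv,
      one_pow, mul_one])
  let q₀ : (⨁ fun _ : Fin c => Coh.structureModule X) ⟶ G' :=
    (biproduct.isoCoproduct (fun _ : Fin c => Coh.structureModule X)).hom ≫ g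
  haveI : Epi q₀ := epi_comp _ g
  exact ⟨m, c, (tw P).map q₀ ≫ ψ.hom, epi_comp _ _⟩

theorem isFinLocFree_kernel {E Q : X.Modules} (hE : FlatMod.IsFinLocFree E) (hQ : FlatMod.IsFinLocFree Q)
    (q : Q ⟶ E) [Epi q] : FlatMod.IsFinLocFree (kernel q) := by
  have hK : Coh.IsCoh (kernel q) :=
    QCoh.isCoh_kernel (CurveDeg.isCoh_of_isFinLocFree hQ) (CurveDeg.isCoh_of_isFinLocFree hE) q
  let T : ShortComplex X.Modules := ShortComplex.mk (kernel.ι q) q (kernel.condition q)
  have hT : T.ShortExact := { exact := ShortComplex.exact_of_f_is_kernel _ (kernelIsKernel q) }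
  refine fun x => ?_
  have h := hT.map_of_exact (DerSch.stalkFunctor X x)
  haveI := QCoh.free_stalk_of_isFinLocFree hE x
  haveI := QCoh.free_stalk_of_isFinLocFree hQ x
  haveI : Module.Finite (X.presheaf.stalk x) ((kernel q).presheaf.stalk x) := QCoh.finite_stalk_of_isFT hK.1 hK.2 x
  haveI : Module.Projective (X.presheaf.stalk x) ((kernel q).presheaf.stalk x) := by
    obtain ⟨s, hs⟩ := Module.projective_lifting_property (RefHull.stalkMapₗ q x) LinearMap.id
      ((ModuleCat.epi_iff_surjective _).1 h.epi_g)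
    have hi : Function.Injective (RefHull.stalkMapₗ T.f x) := (ModuleCat.mono_iff_injective _).1 h.mono_f
    have hex := (ShortComplex.moduleCat_exact_iff _).1 h.exact
    let r : Q.presheaf.stalk x →ₗ[X.presheaf.stalk x] (kernel q).presheaf.stalk x :=
      (LinearEquiv.ofInjective _ hi).symm.toLinearMap.comp
        ((LinearMap.id - s.comp (RefHull.stalkMapₗ q x)).codRestrict _ fun v => LinearMap.mem_range.2 (hex _ (by
          show RefHull.stalkMapₗ q x (v - s (RefHull.stalkMapₗ q x v)) = 0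
          rw [map_sub, show RefHull.stalkMapₗ q x (s _) = _ from LinearMap.congr_fun hs _]
          exact sub_self _)))
    refine Module.Projective.of_split (RefHull.stalkMapₗ T.f x) r (LinearMap.ext fun w => hi ?_)
    have h0 : RefHull.stalkMapₗ q x (RefHull.stalkMapₗ T.f x w) = 0 := by
      rw [← LinearMap.comp_apply, ← HomShX.stalkMapₗ_comp, T.zero, HomShX.stalkMapₗ_zero]; rfl
    refine (congrArg Subtype.val ((LinearEquiv.ofInjective _ hi).apply_symm_apply _)).trans ?_
    show RefHull.stalkMapₗ T.f x w - s (RefHull.stalkMapₗ q x (RefHull.stalkMapₗ T.f x w)) = _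
    rw [h0, map_zero, sub_zero]
    rfl
  haveI : Module.Free (X.presheaf.stalk x) ((kernel q).presheaf.stalk x) := Module.free_of_flat_of_isLocalRing
  obtain ⟨U, n, hxU, hU⟩ := QCoh.exists_free_nhd_of_free_stalk (QCoh.isCoh_iff_isFP.1 hK) x
  exact ⟨U, n, hxU, hU⟩

/-- Negative twists of bundles have no cohomology below `N` if those of the structure twists have none. -/
theorem van_finLocFree (hL : CohB1.IsAmple L) (hL' : PicF.IsInvertible L')
    (hinv : PicF.cl L * PicF.cl L' = 1) {N : ℕ}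
    (hvan : ∀ m p, p < N → Van L' (RefHull.dual (CohB1.tensorPow L' m)) p) :
    ∀ p, p < N → ∀ {E : X.Modules}, FlatMod.IsFinLocFree E → Van L' E p := by
  have step : ∀ {E : X.Modules}, FlatMod.IsFinLocFree E → ∃ (m c : ℕ) (T : ShortComplex X.Modules),
      T.ShortExact ∧ Nonempty (T.X₁ ≅ E) ∧ T.X₂ = RefHull.dual (twSum (CohB1.tensorPow L' m) c) ∧
        FlatMod.IsFinLocFree T.X₃ := fun {E} hE => by
    have hd := PerfGen7.ResDescend.isFinLocFree_dual hE
    obtain ⟨m, c, q, hq⟩ := exists_twSum_epi hL hL' hinv (CurveDeg.isCoh_of_isFinLocFree hd)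
    have hQ : FlatMod.IsFinLocFree (twSum (CohB1.tensorPow L' m) c) :=
      isFinLocFree_twSum (InvX.isInvertible_tensorPow hL' m) c
    have hK := isFinLocFree_kernel hd hQ q
    let T : ShortComplex X.Modules := ShortComplex.mk (kernel.ι q) q (kernel.condition q)
    have hT : T.ShortExact := { exact := ShortComplex.exact_of_f_is_kernel _ (kernelIsKernel q) }
    haveI := ExtShX.isIso_bidualMap hE
    exact ⟨m, c, _, HomShX.shortExact_prec (Coh.structureModule X) hT hK hQ hd,
      ⟨(asIso (RefHull.bidualMap E)).symm⟩, rfl, PerfGen7.ResDescend.isFinLocFree_dual hK⟩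
  intro p
  induction p with
  | zero =>
    intro hp E hE
    obtain ⟨m, c, T, hT, ⟨e⟩, hT₂, -⟩ := step hE
    haveI := hT.mono_f
    refine Van.of_iso e (Van.of_mono hL' T.f ?_)
    rw [hT₂]
    exact van_dual_twSum hL' m c (hvan m 0 hp)
  | succ p ih =>
    intro hp E hE
    obtain ⟨m, c, T, hT, ⟨e⟩, hT₂, hT₃⟩ := step hE
    refine Van.of_iso e (Van.X₁_succ hL' hT ?_ (ih (by omega) hT₃))
    rw [hT₂]
    exact van_dual_twSum hL' m c (hvan m _ hp)

/-- Negative twists of flat modules of fibre projective dimension `≤ j` have no cohomology below `N - j`. -/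
theorem van_of_fibPd (f : X ⟶ S) [Flat f] (hL : CohB1.IsAmple L) (hL' : PicF.IsInvertible L')
    (hinv : PicF.cl L * PicF.cl L' = 1) {N : ℕ}
    (hvan : ∀ m p, p < N → Van L' (RefHull.dual (CohB1.tensorPow L' m)) p) :
    ∀ (j : ℕ) {G : X.Modules}, Coh.IsCoh G → FlatMod.IsFlatOver f G → FibPd f G (j + 1) →
      ∀ p, p + j < N → Van L' G p := by
  haveI : CompactSpace X := hL.2.1
  have hfree := van_finLocFree hL hL' hinv hvan
  intro j
  induction j with
  | zero =>
    intro G hG hfl hpd p hp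
    exact hfree p (by omega) (isFinLocFree_of_fibPd f hG hfl hpd)
  | succ j ih =>
    intro G hG hfl hpd p hp
    obtain ⟨m, c, q, hq⟩ := exists_twSum_epi hL hL' hinv hG
    have hQ : FlatMod.IsFinLocFree (twSum (CohB1.tensorPow L' m) c) :=
      isFinLocFree_twSum (InvX.isInvertible_tensorPow hL' m) c
    have hK : Coh.IsCoh (kernel q) := QCoh.isCoh_kernel (CurveDeg.isCoh_of_isFinLocFree hQ) hG q
    let T : ShortComplex X.Modules := ShortComplex.mk (kernel.ι q) q (kernel.condition q)
    have hT : T.ShortExact := { exact := ShortComplex.exact_of_f_is_kernel _ (kernelIsKernel q) }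
    obtain ⟨hKf, hKp⟩ := fibPd_syz f hT hQ hfl
    exact Van.X₃ hL' hT (hfree p (by omega) hQ) (ih hK hKf (hKp j hpd) (p + 1) (by omega))

end Groth.Agent.DepthRel
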