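import Groth.Agent.DepthRel.Regular
import Groth.Agent.LefLib.Connected
import Groth.Agent.KFlatLib.Scheme.InnerHom
import Groth.Agent.SheafHomX.Basic
import Groth.Agent.QCoh.HHExact
import Groth.Agent.IntSym.QuotTensor

/-!
# Cohomology and the formal limit along a divisor with negative vanishing
-/

set_option linter.style.haveILetI false
set_option backward.isDefEq.respectTransparency false
set_option backward.isDefEq.respectTransparency.types false

universe u

open CategoryTheory CategoryTheory.Limits AlgebraicGeometry TopologicalSpace Opposite MonoidalCategory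

noncomputable section

namespace Groth.Agent.DepthRel

open Groth.Agent

/-- Eventually bijective compatible maps give injectivity and surjectivity to the limit. -/
theorem limit_inj_surj {H : Type*} {G : ℕ → Type*} (f : ∀ m, H → G m) (t : ∀ m, G (m + 1) → G m)
    (hf : ∀ m x, t m (f (m + 1) x) = f m x) (m₀ : ℕ) (hb : ∀ m, m₀ ≤ m → Function.Bijective (f m))
    (y : ∀ m, G m) (hy : ∀ m, t m (y (m + 1)) = y m) : ∃ x, ∀ m, f m x = y m := by
  obtain ⟨x, hx⟩ := (hb m₀ le_rfl).2 (y m₀)
  refine ⟨x, ?_⟩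
  have hup : ∀ m, m₀ ≤ m → f m x = y m := by
    intro m hm
    induction m, hm using Nat.le_induction with
    | base => exact hx
    | succ m hm ih =>
      obtain ⟨z, hz⟩ := (hb (m + 1) (by omega)).2 (y (m + 1))
      have : x = z := (hb m hm).1 (by rw [ih, ← hf m z, hz, hy])
      rw [this, hz]
  have hdown : ∀ d m, m + d = m₀ → f m x = y m := by
    intro d
    induction d with
    | zero => intro m hm; exact hup m (by omega)
    | succ d ih => intro m hm; rw [← hf, ih (m + 1) (by omega), hy]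
  intro m
  rcases Nat.le_total m₀ m with hm | hm
  · exact hup m hm
  · exact hdown (m₀ - m) m (by omega)

variable {X : Scheme.{u}}

/-- The sequence of a regular ideal tensored with a module. -/
theorem shortExact_tensor_toSubscheme (D : X.IdealSheafData) (F : X.Modules)
    [Mono ((DCoh.tensorBi.map (ClSub.idealModι D)).app F)] :
    (ShortComplex.mk ((DCoh.tensorBi.map (ClSub.idealModι D)).app F) ((DCoh.tensorBi.map (ClSub.toSubscheme D)).app F)
      (by rw [← NatTrans.comp_app, ← Functor.map_comp, ClSub.idealModι, kernel.condition, Functor.map_zero]; rfl)).ShortExact := by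
  let T := (DCoh.tensorBi (X := X)).flip.obj F
  haveI : PreservesColimitsOfSize.{u, u} T := inferInstance
  haveI : PreservesFiniteColimits T := PreservesColimitsOfSize.preservesFiniteColimits.{u, u} T
  haveI : T.Additive := (SheafHomX.adj F).left_adjoint_additive
  let S : ShortComplex X.Modules :=
    ShortComplex.mk (ClSub.idealModι D) (ClSub.toSubscheme D) (kernel.condition _)
  have hS : S.ShortExact := IntSym.shortExact_toSubscheme D
  haveI : Epi S.g := hS.epi_g
  haveI : Epi (T.map S.g) := T.map_epi S.g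
  exact { exact := ShortComplex.exact_of_g_is_cokernel (S.map T)
            (CokernelCofork.mapIsColimit _ hS.gIsCokernel T)
          mono_f := inferInstanceAs (Mono ((DCoh.tensorBi.map (ClSub.idealModι D)).app F))
          epi_g := inferInstanceAs (Epi (T.map S.g)) }

/-- Vanishing for the ideal gives the comparison with the limit. -/
theorem cohomology_limit (𝓘 : X.IdealSheafData) {T : X.Modules ⥤ X.Modules} [T.Additive] (n m₀ : ℕ)
    (hS : ∀ m, ∀ w, (ShortComplex.mk (T.map (ClSub.idealModι (𝓘 ^ (m + 1))))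
      (T.map (ClSub.toSubscheme (𝓘 ^ (m + 1)))) w).ShortExact)
    (hvan : ∀ m, m₀ ≤ m → ∀ i, i ≤ n → Subsingleton (Coh.HH X (T.obj (ClSub.idealMod (𝓘 ^ (m + 1)))) i))
    (i : ℕ) :
    (i ≤ n → ∀ x : Coh.HH X (T.obj (Coh.structureModule X)) i, (∀ m : ℕ, Sheaf.H.map ((SheafOfModules.toSheaf X.ringCatSheaf).map
      (T.map (ClSub.toSubscheme (𝓘 ^ (m + 1))))) i x = 0) → x = 0) ∧
    (i < n → ∀ y : (∀ m : ℕ, Coh.HH X (T.obj (ClSub.quotMod (𝓘 ^ (m + 1)))) i),
      (∀ m : ℕ, Sheaf.H.map ((SheafOfModules.toSheaf X.ringCatSheaf).map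
        (T.map (Lef.quotMap (Lef.pow_succ_le 𝓘 m)))) i (y (m + 1)) = y m) →
      ∃ x : Coh.HH X (T.obj (Coh.structureModule X)) i, ∀ m : ℕ, Sheaf.H.map ((SheafOfModules.toSheaf X.ringCatSheaf).map
        (T.map (ClSub.toSubscheme (𝓘 ^ (m + 1))))) i x = y m) := by
  have w : ∀ m, T.map (ClSub.idealModι (𝓘 ^ (m + 1))) ≫ T.map (ClSub.toSubscheme (𝓘 ^ (m + 1))) = 0 := fun m => by
    rw [← Functor.map_comp, ClSub.idealModι, kernel.condition, Functor.map_zero]
  have hab := fun m => QCoh.toAb_shortExact (hS m (w m))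
  have hinj : ∀ m, m₀ ≤ m → ∀ i, i ≤ n → Function.Injective
      (Sheaf.H.map ((SheafOfModules.toSheaf X.ringCatSheaf).map (T.map (ClSub.toSubscheme (𝓘 ^ (m + 1))))) i) :=
    fun m hm i hi => (injective_iff_map_eq_zero _).mpr fun x hx => by
      obtain ⟨z, hz⟩ := Abelian.Ext.covariant_sequence_exact₂ _ (hab m) x hx
      rw [← hz, (hvan m hm i hi).elim z 0]
      exact Abelian.Ext.zero_comp _ _ _ _ _
  refine ⟨fun hi x hx => hinj m₀ le_rfl i hi (by rw [hx m₀, map_zero]), fun hi y hy => ?_⟩
  refine limit_inj_surj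
    (fun m => Sheaf.H.map ((SheafOfModules.toSheaf X.ringCatSheaf).map (T.map (ClSub.toSubscheme (𝓘 ^ (m + 1))))) i)
    (fun m => Sheaf.H.map ((SheafOfModules.toSheaf X.ringCatSheaf).map (T.map (Lef.quotMap (Lef.pow_succ_le 𝓘 m)))) i)
    (fun m x => ?_) m₀ (fun m hm => ⟨hinj m hm i hi.le, fun z => ?_⟩) y hy
  · exact PnCoh.Finite.map_map (Y := X.toPresheafedSpace.carrier)
      (by rw [← Functor.map_comp, ← Functor.map_comp,
        LefLib.toSubscheme_quotMap (I := 𝓘 ^ (m + 1 + 1)) (J := 𝓘 ^ (m + 1)) (Lef.pow_succ_le 𝓘 m)]) i x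
  · obtain ⟨x, hx⟩ := Abelian.Ext.covariant_sequence_exact₃ _ (hab m) z rfl ((hvan m hm (i + 1) hi).elim _ _)
    exact ⟨x, hx⟩

end Groth.Agent.DepthRel
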