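import Groth.Agent.ExtShX.PnLocal
import Groth.Agent.ProjX.Chart
import Groth.Agent.FlatDvr.FibreStalk
import Groth.Agent.Codepth5.Scheme

/-!
# The local rings of the fibres of projective space at closed points
-/

set_option autoImplicit false
set_option linter.style.haveILetI false
set_option backward.isDefEq.respectTransparency false
set_option backward.isDefEq.respectTransparency.types false

universe u

open CategoryTheory CategoryTheory.Limits AlgebraicGeometry IsLocalRing

noncomputable section

namespace Groth.Agent.DepthRel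

open Groth.Agent

/-- A fibre stalk is the quotient of the stalk by the ideal of the fibre. -/
theorem exists_fibIdeal_quot_equiv {X S : Scheme.{u}} (f : X ⟶ S) (s : S) (w : ↥(f.fiber s)) :
    Nonempty ((X.presheaf.stalk (f.fiberι s w) ⧸ Codepth5.fibIdeal f (f.fiberι s w)) ≃+*
      (f.fiber s).presheaf.stalk w) :=
  ⟨(Ideal.quotEquivOfEq (FlatDvr.ker_stalkMap_fiberι f w).symm).trans
    (RingHom.quotientKerEquivOfSurjective ((f.fiberι s).stalkMap_surjective w))⟩

/-- The fibre rings of projective space at closed points are regular of dimension `N`. -/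
theorem regular_fibre_pn (A : Type u) [CommRing A] (N : ℕ) (y : CohB1.ProjSpace N A)
    (hy : IsClosed ({y} : Set (CohB1.ProjSpace N A))) :
    IsRegularLocalRing ((CohB1.ProjSpace N A).presheaf.stalk y ⧸ Codepth5.fibIdeal (CohB1.ProjSpace.toSpec N A) y) ∧
      ringKrullDim ((CohB1.ProjSpace N A).presheaf.stalk y ⧸ Codepth5.fibIdeal (CohB1.ProjSpace.toSpec N A) y) = N := by
  let f := CohB1.ProjSpace.toSpec N A
  obtain ⟨s, w, hw⟩ : ∃ (s : Spec (CommRingCat.of A)) (w : ↥(f.fiber s)), f.fiberι s w = y :=
    ⟨f y, f.asFiber y, f.fiberι_asFiber y⟩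
  subst hw
  obtain ⟨e⟩ := exists_fibIdeal_quot_equiv f s w
  let K := (Spec (CommRingCat.of A)).residueField s
  let φ : A →+* K := (Spec.preimage ((Spec (CommRingCat.of A)).fromSpecResidueField s)).hom
  have hφ : Spec.map (CommRingCat.ofHom φ) = (Spec (CommRingCat.of A)).fromSpecResidueField s :=
    Spec.map_preimage _
  have h₁ : IsPullback (ProjX.pmap N φ) (CohB1.ProjSpace.toSpec N K) f
      ((Spec (CommRingCat.of A)).fromSpecResidueField s) := hφ ▸ ProjX.isPullback_pmap N φ
  have h₂ : IsPullback (f.fiberι s) (f.fiberToSpecResidueField s) f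
      ((Spec (CommRingCat.of A)).fromSpecResidueField s) :=
    IsPullback.of_hasPullback f ((Spec (CommRingCat.of A)).fromSpecResidueField s)
  let i : CohB1.ProjSpace N K ≅ f.fiber s := h₁.isoIsPullback _ _ h₂
  obtain ⟨w', rfl⟩ : ∃ w', i.hom w' = w := i.hom.surjective w
  let e' := e.trans (asIso (i.hom.stalkMap w')).commRingCatIsoToRingEquiv
  have hw' : IsClosed ({w'} : Set (CohB1.ProjSpace N K)) := by
    have h : ({w'} : Set (CohB1.ProjSpace N K)) = (fun z => f.fiberι s (i.hom z)) ⁻¹' {f.fiberι s (i.hom w')} := by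
      ext z
      exact ⟨fun hz => congrArg (fun z => f.fiberι s (i.hom z)) hz,
        fun hz => i.hom.homeomorph.injective ((f.fiberι s).injective hz)⟩
    rw [h]
    exact hy.preimage (((f.fiberι s).continuous).comp i.hom.continuous)
  haveI := ExtShX.isRegularLocalRing_stalk_pn (k := (K : Type u)) (r := N) w'
  exact ⟨.of_ringEquiv e'.symm, by
    rw [ringKrullDim_eq_of_ringEquiv e']
    exact ExtShX.ringKrullDim_stalk_pn hw'⟩

end Groth.Agent.DepthRel
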