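import Groth.Agent.DepthRel.Vanishing
import Groth.Agent.DepthRel.FibrePn
import Groth.Agent.DepthTwist.General
import Groth.Agent.ProjGen7.FlatBase
import Groth.Agent.DualInvX.Basic
import Groth.Agent.S0844
import Groth.Agent.S9349
import Groth.Agent.FlatTwist.Main

/-!
# Negative powers of an ample module over a Noetherian base

For `F` coherent and flat over `A` whose fibres have depth above `n` at the closed points of `X`,
`H^i(X, F ⊗ M^m) = 0` for `i ≤ n` and `m ≫ 0`, `M` the inverse of an ample module.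
-/

set_option autoImplicit false
set_option linter.style.haveILetI false
set_option backward.isDefEq.respectTransparency false
set_option backward.isDefEq.respectTransparency.types false

universe u

open CategoryTheory CategoryTheory.Limits AlgebraicGeometry TopologicalSpace Opposite IsLocalRing
open Groth.Agent.H23.PicMul

noncomputable section

namespace Groth.Agent.DepthRel

open Groth.Agent Groth.Agent.AmpleVan Groth.Agent.DepthTwist

variable {X P : Scheme.{u}}

/-- Depth of the fibre module at a point. -/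
abbrev fibDepth {S : Scheme.{u}} (f : X ⟶ S) (F : X.Modules) (x : X) : ℕ∞ :=
  LocCoh.depth (X.presheaf.stalk x)
    (F.presheaf.stalk x ⧸ Codepth5.fibIdeal f x • (⊤ : Submodule (X.presheaf.stalk x) (F.presheaf.stalk x)))

theorem stalk_push_smul (i : X ⟶ P) [IsClosedImmersion i] (F : X.Modules) (x : X) (a : P.presheaf.stalk (i x))
    (m : ((Scheme.Modules.pushforward i).obj F).presheaf.stalk (i x)) :
    (asIso (TopCat.Presheaf.stalkPushforward Ab.{u} i.base F.presheaf x)).addCommGroupIsoToAddEquiv (a • m) =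
      (i.stalkMap x).hom a •
        (asIso (TopCat.Presheaf.stalkPushforward Ab.{u} i.base F.presheaf x)).addCommGroupIsoToAddEquiv m := by
  let e := (asIso (TopCat.Presheaf.stalkPushforward Ab.{u} i.base F.presheaf x)).addCommGroupIsoToAddEquiv
  obtain ⟨U, hxU, r, rfl⟩ := P.presheaf.exists_germ_eq (x := i x) a
  obtain ⟨V, hxV, s, rfl⟩ := TopCat.Presheaf.exists_germ_eq ((Scheme.Modules.pushforward i).obj F).presheaf m
  let W : P.Opens := U ⊓ V
  have hxW : i x ∈ W := ⟨hxU, hxV⟩
  rw [← P.presheaf.germ_res_apply (homOfLE (inf_le_left : W ≤ U)) (i x) hxW r,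
    ← ((Scheme.Modules.pushforward i).obj F).presheaf.germ_res_apply (homOfLE (inf_le_right : W ≤ V)) (i x) hxW s]
  generalize P.presheaf.map (homOfLE (inf_le_left : W ≤ U)).op r = r'
  generalize ((Scheme.Modules.pushforward i).obj F).presheaf.map (homOfLE (inf_le_right : W ≤ V)).op s = s'
  have he : ∀ t : Γ((Scheme.Modules.pushforward i).obj F, W),
      e (((Scheme.Modules.pushforward i).obj F).presheaf.germ W (i x) hxW t) =
        F.presheaf.germ (i ⁻¹ᵁ W) x hxW (show Γ(F, i ⁻¹ᵁ W) from t) := fun t =>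
    ConcreteCategory.congr_hom (TopCat.Presheaf.stalkPushforward_germ Ab.{u} i.base F.presheaf W x hxW) t
  rw [← QCoh.germ_smul' ((Scheme.Modules.pushforward i).obj F) hxW r' s', he, he,
    Scheme.Hom.germ_stalkMap_apply i W x hxW r']
  exact QCoh.germ_smul' F (show x ∈ i ⁻¹ᵁ W from hxW) (i.app W r') (show Γ(F, i ⁻¹ᵁ W) from s')

theorem fibDepth_push {S : Scheme.{u}} (q : P ⟶ S) (i : X ⟶ P) [IsClosedImmersion i] (F : X.Modules) (x : X) :
    fibDepth q ((Scheme.Modules.pushforward i).obj F) (i x) = fibDepth (i ≫ q) F x := by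
  let σ := (i.stalkMap x).hom
  have hsurj : Function.Surjective σ := i.stalkMap_surjective x
  let e : ((Scheme.Modules.pushforward i).obj F).presheaf.stalk (i x) ≃+ F.presheaf.stalk x :=
    (asIso (TopCat.Presheaf.stalkPushforward Ab.{u} i.base F.presheaf x)).addCommGroupIsoToAddEquiv
  have he : ∀ a m, e (a • m) = σ a • e m := fun a m => stalk_push_smul i F x a m
  have hJ : (Codepth5.fibIdeal q (i x)).map σ = Codepth5.fibIdeal (i ≫ q) x := by
    show ((maximalIdeal _).map (q.stalkMap (i x)).hom).map σ = (maximalIdeal _).map ((i ≫ q).stalkMap x).hom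
    rw [Ideal.map_map, Scheme.Hom.stalkMap_comp]
    rfl
  let J := Codepth5.fibIdeal q (i x)
  let J' := Codepth5.fibIdeal (i ≫ q) x
  have hmem : ∀ m, m ∈ J • (⊤ : Submodule (P.presheaf.stalk (i x)) (((Scheme.Modules.pushforward i).obj F).presheaf.stalk (i x))) ↔
      e m ∈ J' • (⊤ : Submodule (X.presheaf.stalk x) (F.presheaf.stalk x)) := by
    intro m
    constructor
    · intro hm
      refine Submodule.smul_induction_on hm (fun a ha v _ => ?_) fun v w hv hw => ?_
      · rw [he]
        exact Submodule.smul_mem_smul (hJ.le (Ideal.mem_map_of_mem σ ha)) trivial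
      · rw [map_add]; exact add_mem hv hw
    · intro hm
      suffices h : ∀ v ∈ J' • (⊤ : Submodule (X.presheaf.stalk x) (F.presheaf.stalk x)),
          e.symm v ∈ J • (⊤ : Submodule (P.presheaf.stalk (i x))
            (((Scheme.Modules.pushforward i).obj F).presheaf.stalk (i x))) by
        simpa using h _ hm
      intro v hv
      refine Submodule.smul_induction_on hv (fun b hb w _ => ?_) fun v w hv hw => ?_
      · obtain ⟨a, ha, rfl⟩ := (Ideal.mem_map_iff_of_surjective σ hsurj).1 (hJ.ge hb)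
        have h1 : e.symm (σ a • w) = a • e.symm w :=
          e.injective (by rw [he, AddEquiv.apply_symm_apply, AddEquiv.apply_symm_apply])
        rw [h1]
        exact Submodule.smul_mem_smul ha trivial
      · rw [map_add]; exact add_mem hv hw
  let e' : (((Scheme.Modules.pushforward i).obj F).presheaf.stalk (i x) ⧸
      J • (⊤ : Submodule (P.presheaf.stalk (i x)) (((Scheme.Modules.pushforward i).obj F).presheaf.stalk (i x)))) ≃+
      (F.presheaf.stalk x ⧸ J' • (⊤ : Submodule (X.presheaf.stalk x) (F.presheaf.stalk x))) :=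
    QuotientAddGroup.congr _ _ e (by
      ext v
      refine ⟨fun ⟨m, hm, hv⟩ => hv ▸ (hmem m).1 hm, fun hv => ⟨e.symm v, (hmem _).2 ?_, e.apply_symm_apply v⟩⟩
      rw [e.apply_symm_apply]; exact hv)
  refine Alg6.depth_eq_of_semilinear σ hsurj e' fun a m => ?_
  refine Submodule.Quotient.induction_on _ m fun v => ?_
  exact congrArg (Submodule.Quotient.mk (p := J' • (⊤ : Submodule (X.presheaf.stalk x) (F.presheaf.stalk x)))) (he a v)

/-- Fibre depth is unchanged by an invertible twist. -/
theorem fibDepth_twist {S : Scheme.{u}} (f : X ⟶ S) (F : X.Modules) {M : X.Modules} (hM : PicF.IsInvertible M)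
    (x : X) : fibDepth f (CohB1.tensorMod F M) x = fibDepth f F x := by
  obtain ⟨e⟩ := H23.InvStalk.exists_stalk_equiv hM x
  let ε : (CohB1.tensorMod F M).presheaf.stalk x ≃ₗ[X.presheaf.stalk x] F.presheaf.stalk x :=
    (show ((DerSch.stalkFunctor X x).obj (CohB1.tensorMod F M) : Type u) ≃ₗ[X.presheaf.stalk x]
      ((DerSch.stalkFunctor X x).obj F : Type u) from
    (KFlatLib.stalkTensorIso x F M).toLinearEquiv.symm.trans
      ((TensorProduct.congr (LinearEquiv.refl _ _) e).trans (TensorProduct.rid _ _)))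
  let ε' := Submodule.Quotient.equiv (Codepth5.fibIdeal f x • ⊤) (Codepth5.fibIdeal f x • ⊤) ε (by
    rw [Submodule.map_smul'', Submodule.map_top, LinearMap.range_eq_top.2 ε.surjective])
  exact Alg6.depth_eq_of_semilinear (RingHom.id (X.presheaf.stalk x)) (fun a => ⟨a, rfl⟩)
    ε'.toAddEquiv (fun r m => map_smul ε' r m)

/-- Fibre depth bounds the fibre projective dimension on projective space. -/
theorem fibPd_pn (A : Type u) [CommRing A] [IsNoetherianRing A] (N : ℕ) {G : (CohB1.ProjSpace N A).Modules}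
    (hG : Coh.IsCoh G) (n : ℕ) (hn : n + 1 ≤ N)
    (h : ∀ y, IsClosed ({y} : Set (CohB1.ProjSpace N A)) →
      ((n + 1 : ℕ) : ℕ∞) ≤ fibDepth (CohB1.ProjSpace.toSpec N A) G y) :
    FibPd (CohB1.ProjSpace.toSpec N A) G (N - (n + 1) + 1) := by
  intro y hy
  obtain ⟨hreg, hdy⟩ := regular_fibre_pn A N y hy
  haveI := hreg
  let P := CohB1.ProjSpace N A
  let J := Codepth5.fibIdeal (CohB1.ProjSpace.toSpec N A) y
  haveI : Module.Finite (P.presheaf.stalk y) (G.presheaf.stalk y) := QCoh.finite_stalk_of_isFT hG.1 hG.2 y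
  haveI : Module.Finite (P.presheaf.stalk y ⧸ J)
      (G.presheaf.stalk y ⧸ J • (⊤ : Submodule (P.presheaf.stalk y) (G.presheaf.stalk y))) :=
    Module.Finite.of_restrictScalars_finite (P.presheaf.stalk y) _ _
  refine LC.pdLE_of_le_depth _ N hdy _ (N - (n + 1)) ?_
  rw [← Alg6.depth_eq_of_semilinear (Ideal.Quotient.mk J) Ideal.Quotient.mk_surjective
    (AddEquiv.refl (G.presheaf.stalk y ⧸ J • (⊤ : Submodule (P.presheaf.stalk y) (G.presheaf.stalk y))))
    fun r x => rfl]
  refine le_trans ?_ (add_le_add_left (h y hy) _)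
  exact_mod_cast (by omega : N ≤ n + 1 + (N - (n + 1)))

theorem isNoetherian_pn (A : Type u) [CommRing A] [IsNoetherianRing A] (N : ℕ) :
    IsNoetherian (CohB1.ProjSpace N A) := Proj16.isNoetherian_proj _

/-- The basic vanishing on projective space. -/
theorem van_pn (A : Type u) [CommRing A] [IsNoetherianRing A] (N : ℕ) {G : (CohB1.ProjSpace N A).Modules}
    (hG : Coh.IsCoh G) (hflat : FlatMod.IsFlatOver (CohB1.ProjSpace.toSpec N A) G) (n : ℕ)
    (h : ∀ y, IsClosed ({y} : Set (CohB1.ProjSpace N A)) →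
      ((n + 1 : ℕ) : ℕ∞) ≤ fibDepth (CohB1.ProjSpace.toSpec N A) G y)
    (i : ℕ) (hi : i ≤ n) : Van (Twist.twistProjSpace N A (-1)) G i := by
  classical
  let P := CohB1.ProjSpace N A
  haveI : IsNoetherian P := isNoetherian_pn A N
  let O' := fun d : ℤ => Twist.twistProjSpace N A d
  let f : ULift.{u} (Fin (N + 1)) → MvPolynomial (Fin (N + 1)) A := fun j => MvPolynomial.X j.down
  have hf : ∀ j, f j ∈ CohB1.polyGrading N A 1 := fun j => ProjPt.X_mem j.down
  have hcov : ⨆ j, Proj.basicOpen (CohB1.polyGrading N A) (f j) = ⊤ :=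
    top_le_iff.1 ((AmpleEmbed.iSup_basicOpen_X N A).ge.trans (iSup_le fun j => le_iSup_of_le (ULift.up j) le_rfl))
  obtain ⟨hinvert, hadd, hpow⟩ := PnCoh.Finite.invertible_package f hf hcov
  let L' := O' (-1)
  have hL' : PicF.IsInvertible L' := hinvert _
  have hz : PicF.cl (O' 0) = 1 := by
    rw [one_def]
    exact cl_eq_iff.2 ⟨(hpow 0).some⟩
  have hmul : ∀ a b : ℤ, PicF.cl (O' a) * PicF.cl (O' b) = PicF.cl (O' (a + b)) := fun a b => by
    rw [← cl_tensor]; exact cl_eq_iff.2 (hadd a b)
  have hinv : PicF.cl (O' 1) * PicF.cl L' = 1 := by rw [hmul]; exact hz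
  have hL : CohB1.IsAmple (O' 1) := by
    refine AmpleX.isAmple_twist_one (𝒜 := CohB1.polyGrading N A) (Finset.univ.image fun j : Fin (N + 1) => MvPolynomial.X j) ?_ ?_
    · intro g hg
      obtain ⟨j, -, rfl⟩ := Finset.mem_image.1 hg
      exact ProjPt.X_mem j
    · refine eq_top_iff.2 fun y _ => ?_
      obtain ⟨j, hj⟩ := Opens.mem_iSup.1 ((AmpleEmbed.iSup_basicOpen_X N A).ge (trivial : y ∈ (⊤ : Opens _)))
      exact Opens.mem_iSup.2 ⟨⟨MvPolynomial.X j, Finset.mem_image.2 ⟨j, Finset.mem_univ _, rfl⟩⟩, hj⟩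
  have hk : ∀ k : ℕ, PicF.cl (CohB1.tensorPow L' k) = PicF.cl (O' (-(k : ℤ))) := fun k => by
    induction k with
    | zero => rw [cl_tensorPow, pow_zero, Nat.cast_zero, neg_zero, hz]
    | succ k ih =>
      rw [cl_tensorPow, pow_succ, ← cl_tensorPow, ih, hmul]
      congr 2; push_cast; ring
  have hvan : ∀ m p, p < N → Van L' (RefHull.dual (CohB1.tensorPow L' m)) p := fun m p hp => by
    refine ⟨m + 1, fun k hk' => ?_⟩
    have hd : PicF.cl (RefHull.dual (CohB1.tensorPow L' m)) = PicF.cl (O' (m : ℤ)) := by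
      have h1 : PicF.cl (CohB1.tensorPow L' m) * PicF.cl (RefHull.dual (CohB1.tensorPow L' m)) = 1 := by
        rw [← cl_tensor, one_def]
        exact cl_eq_iff.2 (DualInvX.nonempty_tensor_dual (InvX.isInvertible_tensorPow hL' m))
      refine (left_inv_eq_right_inv ?_ h1).symm
      rw [mul_comm, hk, hmul, neg_add_cancel, hz]
    obtain ⟨e⟩ : Nonempty (O' ((m : ℤ) + -(k : ℤ)) ≅
        CohB1.tensorMod (RefHull.dual (CohB1.tensorPow L' m)) (CohB1.tensorPow L' k)) := cl_eq_iff.1 (by
      rw [cl_tensor, hd, hk, hmul])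
    exact QCoh.subsingleton_HH_of_iso e p (S0844.result A N _ p (by omega) (by omega))
  haveI : Flat (CohB1.ProjSpace.toSpec N A) :=
    MorphismProperty.of_isPullback (P := @Flat) (ProjX.isPullback_pmap N (ProjX.zto A)) (ProjGen7.flat_toSpec_int N)
  rcases Nat.lt_or_ge N (n + 1) with hN | hN
  · have hz : IsZero G := CurveCohLib.isZero_of_subsingleton_stalks fun z => by
      by_contra hz
      obtain ⟨y, hzy, hy⟩ := (QCoh.isClosed_support_of_isFT hG.1 hG.2).exists_closed_singleton
        ⟨z, (show z ∈ CohB1.support G from hz)⟩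
      obtain ⟨hreg, hdy⟩ := regular_fibre_pn A N y hy
      haveI := hreg
      let J := Codepth5.fibIdeal (CohB1.ProjSpace.toSpec N A) y
      let M := G.presheaf.stalk y ⧸ J • (⊤ : Submodule (P.presheaf.stalk y) (G.presheaf.stalk y))
      haveI : Module.Finite (P.presheaf.stalk y) (G.presheaf.stalk y) := QCoh.finite_stalk_of_isFT hG.1 hG.2 y
      haveI : Nontrivial M := by
        refine Submodule.Quotient.nontrivial_iff.2 fun he => hzy ?_
        have hJ : J ≤ (⊥ : Ideal (P.presheaf.stalk y)).jacobson := by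
          refine le_trans ?_ (maximalIdeal_le_jacobson ⊥)
          exact Ideal.map_le_iff_le_comap.2 fun a ha hu => ha (isUnit_of_map_unit _ a hu)
        exact (Submodule.subsingleton_iff _).1 (subsingleton_of_bot_eq_top
          (Submodule.eq_bot_of_le_smul_of_le_jacobson_bot J ⊤ Module.Finite.fg_top he.ge hJ).symm)
      haveI : Module.Finite (P.presheaf.stalk y ⧸ J) M :=
        Module.Finite.of_restrictScalars_finite (P.presheaf.stalk y) _ _
      have h1 := (LC.depth_le_supportDim (R := P.presheaf.stalk y ⧸ J) (M := M)).trans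
        (Module.supportDim_le_ringKrullDim _ _)
      rw [hdy, ← Alg6.depth_eq_of_semilinear (Ideal.Quotient.mk J) Ideal.Quotient.mk_surjective
        (AddEquiv.refl M) fun r x => rfl] at h1
      have h2 := (WithBot.coe_le_coe.2 (h y hy)).trans h1
      have h3 : n + 1 ≤ N := by exact_mod_cast h2
      omega
    refine ⟨0, fun k _ => ?_⟩
    haveI := isEquivalence_tw (InvX.isInvertible_tensorPow hL' k)
    haveI : (tw (CohB1.tensorPow L' k)).Additive := Functor.additive_of_preserves_binary_products _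
    exact Euler.subsingleton_HH_of_isZero ((tw (CohB1.tensorPow L' k)).map_isZero hz) i
  · exact van_of_fibPd (CohB1.ProjSpace.toSpec N A) hL hL' hinv hvan (N - (n + 1)) hG hflat
      (fibPd_pn A N hG n hN h) i (by omega)

/-- Negative powers of an ample module over a Noetherian base. -/
theorem exists_vanishing (A : Type u) [CommRing A] [IsNoetherianRing A] [X.Over (Spec (CommRingCat.of A))]
    [IsProper (X ↘ Spec (CommRingCat.of A))] {L M : X.Modules} (hL : CohB1.IsAmple L)
    (hM : ClSub.IsInverseOf L M) (F : X.Modules) (hF : Coh.IsCoh F)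
    (hflat : FlatMod.IsFlatOver (X ↘ Spec (CommRingCat.of A)) F) (n : ℕ)
    (hdepth : ∀ x : X, IsClosed ({x} : Set X) →
      ((n + 1 : ℕ) : ℕ∞) ≤ fibDepth (X ↘ Spec (CommRingCat.of A)) F x) :
    ∃ m₀ : ℕ, ∀ m : ℕ, m₀ ≤ m → ∀ i, i ≤ n →
      Subsingleton (Coh.HH X (CohB1.tensorMod F (CohB1.tensorPow M m)) i) := by
  classical
  rcases isEmpty_or_nonempty X with hX | hX
  · exact ⟨0, fun m _ i _ => Euler.subsingleton_HH_of_isZero
      (CurveCohLib.isZero_of_subsingleton_stalks fun z => hX.elim z) i⟩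
  let q := X ↘ Spec (CommRingCat.of A)
  obtain ⟨N, r, h1, h2, ⟨d, hd, hiso⟩, -⟩ := AmpleEmbed.exists_immersion_of_section q hL 0
  haveI : IsProper (CohB1.ProjSpace.toSpec N A) := PnCoh.Chow.isProper_toSpec N A
  haveI : IsProper (r ≫ CohB1.ProjSpace.toSpec N A) := by rw [h2]; infer_instance
  haveI : IsProper r := IsProper.of_comp r (CohB1.ProjSpace.toSpec N A)
  haveI : IsClosedImmersion r := .of_isPreimmersion _ r.isClosedMap.isClosed_range
  haveI : IsLocallyNoetherian X := LocallyOfFiniteType.isLocallyNoetherian q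
  haveI : IsNoetherian (CohB1.ProjSpace N A) := isNoetherian_pn A N
  have hLM : PicF.cl L * PicF.cl M = 1 := by
    rw [← cl_tensor, one_def]; exact cl_eq_iff.2 hM
  obtain ⟨D, hD, ⟨eD⟩⟩ := H23.PicInv.exists_inverse hL.1
  have hLD : PicF.cl L * PicF.cl D = 1 := by
    rw [← cl_tensor, one_def]; exact cl_eq_iff.2 ⟨eD⟩
  have hMi : PicF.IsInvertible M := by
    obtain ⟨eDM⟩ : Nonempty (D ≅ M) :=
      cl_eq_iff.1 (left_inv_eq_right_inv (by rw [mul_comm]; exact hLD) hLM)
    exact H23.PicMul.isInvertible_of_iso eDM hD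
  have hcl : PicF.pullCl r (PicF.cl (Twist.twistProjSpace N A (-1))) = PicF.cl (CohB1.tensorPow M d) := by
    obtain ⟨hinvert, hadd, hpow⟩ := PnCoh.Finite.invertible_package
      (fun j : ULift.{u} (Fin (N + 1)) => (MvPolynomial.X j.down : MvPolynomial (Fin (N + 1)) A))
      (fun j => ProjPt.X_mem j.down) (top_le_iff.1 ((AmpleEmbed.iSup_basicOpen_X N A).ge.trans
        (iSup_le fun j => le_iSup_of_le (ULift.up j) le_rfl)))
    have h0 : PicF.cl (Twist.twistProjSpace N A 1) * PicF.cl (Twist.twistProjSpace N A (-1)) = 1 := by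
      rw [← cl_tensor, one_def]
      exact cl_eq_iff.2 ⟨(hadd 1 (-1)).some ≪≫ (hpow 0).some⟩
    have h3 : PicF.cl (CohB1.tensorPow L d) * PicF.pullCl r (PicF.cl (Twist.twistProjSpace N A (-1))) = 1 := by
      rw [← cl_eq_iff.2 (hiso hX)]
      show PicF.pullCl r (PicF.cl (Twist.twistProjSpace N A 1)) *
        PicF.pullCl r (PicF.cl (Twist.twistProjSpace N A (-1))) = 1
      rw [← pullCl_mul, h0, pullCl_one]
    refine (left_inv_eq_right_inv ?_ h3).symm
    rw [cl_tensorPow, cl_tensorPow, ← mul_pow, mul_comm, hLM, one_pow]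
  have H : ∀ (s : Fin d) (i : Fin (n + 1)), ∃ k₀, ∀ k, k₀ ≤ k → Subsingleton (Coh.HH X
      (CohB1.tensorMod (CohB1.tensorMod F (CohB1.tensorPow M s)) (CohB1.tensorPow (CohB1.tensorPow M d) k)) i) :=
    fun s i => by
    let F' := CohB1.tensorMod F (CohB1.tensorPow M s)
    have hMs : PicF.IsInvertible (CohB1.tensorPow M s) := InvX.isInvertible_tensorPow hMi s
    have hF' : Coh.IsCoh F' := AmpleVan.isCoh_tensor hF (CurveDeg.isCoh_of_isInvertible hMs)
    have hfl' : FlatMod.IsFlatOver (r ≫ CohB1.ProjSpace.toSpec N A) F' := by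
      rw [h2]; exact FlatTwist.isFlatOver_tensor q hF.1 hflat hMs
    let G := (Scheme.Modules.pushforward r).obj F'
    have hG : Coh.IsCoh G := QCoh.isCoh_push r hF'
    obtain ⟨k₀, hk⟩ := van_pn A N hG
      ((S9349.result r (CohB1.ProjSpace.toSpec N A) F' hF'.1).1 hfl') n (fun y hy => by
        by_cases hr : y ∈ Set.range r
        · obtain ⟨x, rfl⟩ := hr
          rw [fibDepth_push, h2, fibDepth_twist q F hMs x]
          refine hdepth x ?_
          have h : ({x} : Set X) = r ⁻¹' {r x} := by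
            ext z
            exact ⟨fun hz => congrArg r hz, fun hz => r.isClosedEmbedding.injective hz⟩
          rw [h]
          exact hy.preimage r.continuous
        · haveI : Subsingleton (G.presheaf.stalk y) :=
            AddCommGrpCat.subsingleton_of_isZero (KFlatLib.isZero_stalk_push r y hr F')
          haveI : Subsingleton (G.presheaf.stalk y ⧸ Codepth5.fibIdeal (CohB1.ProjSpace.toSpec N A) y •
              (⊤ : Submodule ((CohB1.ProjSpace N A).presheaf.stalk y) (G.presheaf.stalk y))) :=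
            (Submodule.Quotient.mk_surjective _).subsingleton
          exact le_top.trans_eq (if_pos (Subsingleton.elim _ _)).symm) i (Nat.lt_succ_iff.1 i.2)
    refine ⟨k₀, fun k hk' => ?_⟩
    let T := CohB1.tensorPow (Twist.twistProjSpace N A (-1)) k
    obtain ⟨u⟩ : Nonempty ((Scheme.Modules.pullback r).obj T ≅ CohB1.tensorPow (CohB1.tensorPow M d) k) :=
      cl_eq_iff.1 (by
        show PicF.pullCl r (PicF.cl T) = _
        rw [cl_tensorPow, pullCl_pow, hcl, cl_tensorPow (CohB1.tensorPow M d)])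
    have hT : PicF.IsInvertible ((Scheme.Modules.pullback r).obj T) :=
      H23.PicMul.isInvertible_of_iso u.symm
        (InvX.isInvertible_tensorPow (InvX.isInvertible_tensorPow hMi d) k)
    have hq : Coh.IsQCoh (CohB1.tensorMod F' ((Scheme.Modules.pullback r).obj T)) :=
      KFlatLib.isQCoh_tensor hF'.1 (ProjUPX.isQCoh_of_isInvertible hT)
    obtain ⟨ε⟩ := QCoh.HH_push_of_isAffineHom r hq i
    haveI hproj := KFlatLib.isIso_projMod_of_isClosedImmersion r F' T
    have h1 := QCoh.subsingleton_HH_of_iso (asIso (KFlatLib.projMod r F' T)) i (hk k hk')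
    have h2 : Subsingleton (Coh.HH X (CohB1.tensorMod F' ((Scheme.Modules.pullback r).obj T)) i) :=
      @Equiv.subsingleton _ _ ε.toEquiv h1
    exact QCoh.subsingleton_HH_of_iso ((DCoh.tensorBi.obj F').mapIso u) i h2
  choose k₀ hk₀ using H
  let K := Finset.univ.sup fun s : Fin d => Finset.univ.sup fun i : Fin (n + 1) => k₀ s i
  refine ⟨(K + 1) * d, fun m hm i hi => ?_⟩
  have hs : m % d < d := Nat.mod_lt _ hd
  have hq : k₀ ⟨m % d, hs⟩ ⟨i, Nat.lt_succ_of_le hi⟩ ≤ m / d := by
    refine le_trans ((Finset.le_sup (f := fun i : Fin (n + 1) => k₀ ⟨m % d, hs⟩ i) (Finset.mem_univ _)).trans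
      (Finset.le_sup (f := fun s : Fin d => Finset.univ.sup fun i : Fin (n + 1) => k₀ s i) (Finset.mem_univ _))) ?_
    rw [Nat.le_div_iff_mul_le hd]
    calc _ ≤ (K + 1) * d := Nat.mul_le_mul_right _ (Nat.le_succ _)
      _ ≤ m := hm
  obtain ⟨u⟩ : Nonempty (CohB1.tensorMod (CohB1.tensorPow M (m % d))
      (CohB1.tensorPow (CohB1.tensorPow M d) (m / d)) ≅ CohB1.tensorPow M m) := cl_eq_iff.1 (by
    rw [cl_tensor, cl_tensorPow, cl_tensorPow, cl_tensorPow, cl_tensorPow, ← pow_mul, ← pow_add,
      Nat.mod_add_div])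
  exact QCoh.subsingleton_HH_of_iso
    (((AmpleVan.twComp _ _).app F) ≪≫ (DCoh.tensorBi.obj F).mapIso u) i (hk₀ ⟨m % d, hs⟩ ⟨i, _⟩ _ hq)

end Groth.Agent.DepthRel
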