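import Groth.Agent.S18372
import Groth.Agent.S14104
import Groth.Agent.Triage.CMMor
import Groth.Agent.DepthRel.Main
import Groth.Agent.Codepth5.CM
import Groth.Agent.DepthTwist.Connected
import Groth.Agent.Lib.AmpleImmersion
import Groth.Agent.ParShLib.ResStalk
import Groth.Agent.AssLib.Apply
import Groth.Agent.IntSym.QuotTensor

/-!
# The complement of an ample divisor over a Noetherian base; fibre depths of the structure module
-/

set_option autoImplicit false
set_option linter.style.haveILetI false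
set_option backward.isDefEq.respectTransparency false
set_option backward.isDefEq.respectTransparency.types false

universe u

open CategoryTheory CategoryTheory.Limits AlgebraicGeometry TopologicalSpace IsLocalRing MonoidalCategory
open Groth.Agent.H23.PicMul

noncomputable section

namespace Groth.Agent.DepthRel

open Groth.Agent

variable {A : Type u} [CommRing A] {X : Scheme.{u}}

/-- The complement of a divisor with ample inverse sits in an affine open. -/
theorem exists_affine_compl (q : X ⟶ Spec (CommRingCat.of A)) [IsProper q] (𝓘 : X.IdealSheafData) {L : X.Modules}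
    (hL : ClSub.IsInverseOf L (ClSub.idealMod 𝓘)) (hamp : CohB1.IsAmple L) :
    ∃ W : X.Opens, IsAffineOpen W ∧ ∀ y : X, y ∉ 𝓘.support → y ∈ W := by
  let ι' := (DCoh.tensorBi.obj L).map (ClSub.idealModι 𝓘) ≫ (KFlatLib.tensorUnitIso L).hom
  obtain ⟨e⟩ := hL
  let s : Coh.structureModule X ⟶ L := e.inv ≫ ι'
  refine ⟨CohB1.genLocus L s, AmpleEmbed.isAffineOpen_genLocus q hamp s, fun y hy => ?_⟩
  obtain ⟨ε⟩ := H23.InvStalk.exists_stalk_equiv hamp.1 y
  refine (DepthTwist.surjective_stalk_iff hamp.1 s y).1 ?_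
  have hS := (IntSym.shortExact_toSubscheme 𝓘).map_of_exact (DerSch.stalkFunctor X y)
  have hsurj : Function.Surjective ((DerSch.stalkFunctor X y).map (ClSub.idealModι 𝓘)) := fun v => by
    haveI : Subsingleton ((DerSch.stalkFunctor X y).obj (ClSub.quotMod 𝓘)) :=
      ParShLib.subsingleton_stalk_quotMod 𝓘 hy
    exact (ShortComplex.moduleCat_exact_iff _).1 hS.exact v
      (Subsingleton.elim (α := ((DerSch.stalkFunctor X y).obj (ClSub.quotMod 𝓘) : Type u)) _ _)
  have ha := ConcreteCategory.bijective_of_isIso ((DerSch.stalkFunctor X y).map e.inv)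
  have hb := ConcreteCategory.bijective_of_isIso ((DerSch.stalkFunctor X y).map (KFlatLib.tensorUnitIso L).hom)
  show Function.Surjective ((DerSch.stalkFunctor X y).map
    (e.inv ≫ (DCoh.tensorBi.obj L).map (ClSub.idealModι 𝓘) ≫ (KFlatLib.tensorUnitIso L).hom))
  rw [Functor.map_comp, Functor.map_comp]
  exact (hb.2.comp ((H23.InvStalk.stalk_tensor_map_surjective_iff _ y ε).2 hsurj)).comp ha.2

/-- Closed sets missing an ample divisor consist of points closed in their fibres. -/
theorem isClosed_asFiber_of_disjoint (q : X ⟶ Spec (CommRingCat.of A)) [IsProper q] (𝓘 : X.IdealSheafData)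
    {L : X.Modules} (hL : ClSub.IsInverseOf L (ClSub.idealMod 𝓘)) (hamp : CohB1.IsAmple L)
    {Z : Set X} (hZ : IsClosed Z) (hZY : Disjoint Z (𝓘.support : Set X)) {z : X} (hz : z ∈ Z) :
    IsClosed ({q.asFiber z} : Set ↥(q.fiber (q z))) := by
  obtain ⟨W, hW, hcompl⟩ := exists_affine_compl q 𝓘 hL hamp
  let D := Scheme.IdealSheafData.vanishingIdeal (⟨Z, hZ⟩ : Closeds X)
  let j := D.subschemeι
  have hrange : Set.range j = Z := by
    rw [Scheme.IdealSheafData.range_subschemeι]
    rfl
  have htop : (j ⁻¹ᵁ W : D.subscheme.Opens) = ⊤ := top_le_iff.1 fun w _ =>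
    hcompl _ (Set.disjoint_left.1 hZY (hrange.le ⟨w, rfl⟩))
  haveI : IsAffine D.subscheme := by
    haveI : IsAffine ((⊤ : D.subscheme.Opens) : Scheme.{u}) := htop ▸ hW.preimage j
    exact IsAffine.of_isIso D.subscheme.topIso.inv
  haveI : IsProper (j ≫ q) := inferInstance
  haveI : IsAffineHom (j ≫ q) := isAffineHom_of_isAffine _
  haveI : IsFinite (j ≫ q) := (IsFinite.iff_isProper_and_isAffineHom (f := j ≫ q)).2 ⟨inferInstance, inferInstance⟩
  have hfin : (Z ∩ q ⁻¹' {q z}).Finite := by
    refine (((j ≫ q).finite_preimage_singleton (q z)).image j).subset ?_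
    rintro w ⟨hwZ, hwq⟩
    obtain ⟨v, rfl⟩ := hrange.ge hwZ
    exact ⟨v, hwq, rfl⟩
  obtain ⟨v, rfl⟩ := hrange.ge hz
  have hdisc := (j ≫ q).isDiscrete_preimage_singleton (q (j v))
  rw [← closure_subset_iff_isClosed]
  intro w hw
  have hspec : q.asFiber (j v) ⤳ w := specializes_iff_mem_closure.2 hw
  have hspec' : j v ⤳ q.fiberι (q (j v)) w := by
    have := hspec.map (q.fiberι (q (j v))).continuous
    rwa [q.fiberι_asFiber] at this
  obtain ⟨v', hv'⟩ : q.fiberι (q (j v)) w ∈ Set.range j := by
    rw [hrange]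
    exact hspec'.mem_closed hZ hz
  have hqv' : q (j v') = q (j v) := by
    rw [hv']
    have := Set.mem_range_self (f := q.fiberι (q (j v))) w
    rw [Scheme.Hom.range_fiberι] at this
    exact this
  have hspecv : v ⤳ v' := j.isClosedEmbedding.isInducing.specializes_iff.1 (hv' ▸ hspec')
  haveI : DiscreteTopology ((j ≫ q) ⁻¹' {q (j v)}) := isDiscrete_iff_discreteTopology.1 hdisc
  have : (⟨v, rfl⟩ : ((j ≫ q) ⁻¹' {q (j v)} : Set D.subscheme)) = ⟨v', hqv'⟩ :=
    (Topology.IsInducing.subtypeVal.specializes_iff.1 hspecv).eq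
  refine (q.fiberι (q (j v))).isEmbedding.injective ?_
  rw [q.fiberι_asFiber, ← hv']
  exact (congrArg j (congrArg Subtype.val this)).symm

/-- Closed points are closed in their fibres. -/
theorem isClosed_asFiber_of_isClosed {S : Scheme.{u}} (f : X ⟶ S) {x : X} (hx : IsClosed ({x} : Set X)) :
    IsClosed ({f.asFiber x} : Set ↥(f.fiber (f x))) := by
  have h : ({f.asFiber x} : Set ↥(f.fiber (f x))) = (f.fiberι (f x)) ⁻¹' {x} := by
    ext w
    constructor
    · rintro rfl
      exact f.fiberι_asFiber x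
    · intro hw
      exact (f.fiberι (f x)).injective (hw.trans (f.fiberι_asFiber x).symm)
  rw [h]
  exact hx.preimage (f.fiberι (f x)).continuous

/-- Fibre depth of the structure module. -/
theorem fibDepth_unit {S : Scheme.{u}} (f : X ⟶ S) (x : X) :
    fibDepth f (Coh.structureModule X) x = LocCoh.depth ↑(CInt.fiberStalk f x) ↑(CInt.fiberStalk f x) := by
  obtain ⟨e⟩ := Triage.CMMor.exists_equiv_fibre_stalk f x
  let u₀ := KFlatLib.stalkUnitEquiv x
  let u := u₀.symm
  let O := X.presheaf.stalk x
  let J := Codepth5.fibIdeal f x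
  let u' : ((Coh.structureModule X).presheaf.stalk x ⧸
      J • (⊤ : Submodule O ((Coh.structureModule X).presheaf.stalk x))) ≃ₗ[O] O ⧸ J :=
    Submodule.Quotient.equiv (J • (⊤ : Submodule O ((Coh.structureModule X).presheaf.stalk x))) J u (by
      rw [Submodule.map_smul'', Submodule.map_top, LinearMap.range_eq_top.2 u.surjective, Ideal.smul_eq_mul,
        Ideal.mul_top])
  refine Alg6.depth_eq_of_semilinear (e.toRingHom.comp (Ideal.Quotient.mk J))
    (e.surjective.comp Ideal.Quotient.mk_surjective) (u'.toAddEquiv.trans e.toAddEquiv) fun r m => ?_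
  show e (u' (r • m)) = e (Ideal.Quotient.mk J r) * e (u' m)
  rw [map_smul, ← map_mul]
  rfl

/-- Fibre depth of the module of a fibre. -/
theorem fibDepth_eq_fibreMod {S : Scheme.{u}} (f : X ⟶ S) (F : X.Modules) (x : X) :
    fibDepth f F x = LocCoh.depth ↑(CInt.fiberStalk f x)
      ((CohIII.fiberMod f F (f x)).presheaf.stalk (f.asFiber x)) :=
  ((Prod.ext_iff.1 (Codepth5.fibre_dd_eq f F x _ _ (f.fiberι_asFiber x))).2).symm

/-- Fibre depth only depends on the isomorphism class. -/
theorem fibDepth_of_iso {S : Scheme.{u}} (f : X ⟶ S) {F G : X.Modules} (u : F ≅ G) (x : X) :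
    fibDepth f F x = fibDepth f G x := by
  let O := X.presheaf.stalk x
  let J := Codepth5.fibIdeal f x
  let ε : F.presheaf.stalk x ≃ₗ[O] G.presheaf.stalk x := ((DerSch.stalkFunctor X x).mapIso u).toLinearEquiv
  let ε' := Submodule.Quotient.equiv (J • ⊤) (J • ⊤) ε (by
    rw [Submodule.map_smul'', Submodule.map_top, LinearMap.range_eq_top.2 ε.surjective])
  exact Alg6.depth_eq_of_semilinear (RingHom.id O) (fun a => ⟨a, rfl⟩) ε'.toAddEquiv (fun r m => map_smul ε' r m)

end Groth.Agent.DepthRel
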