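import Groth.Agent.DepthRel.Fibres
import Groth.Agent.LefLib.Formal
import Groth.Agent.LefLib.Restrict

/-!
# The Lefschetz property relative to an ample divisor with negative vanishing
-/

set_option linter.style.haveILetI false
set_option linter.unusedSectionVars false
set_option backward.isDefEq.respectTransparency false
set_option backward.isDefEq.respectTransparency.types false

universe u

open CategoryTheory CategoryTheory.Limits AlgebraicGeometry TopologicalSpace Opposite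
open Groth.Agent.H23.PicMul

noncomputable section

namespace Groth.Agent.DepthRel

open Groth.Agent Groth.Agent.AmpleVan

variable {X : Scheme.{u}} {𝓘 : X.IdealSheafData} [IsLocallyNoetherian X]

/-- Invertible modules have the Lefschetz property with respect to an ample divisor. -/
theorem homToFormal_invertible {L : X.Modules} (hI : PicF.IsInvertible (ClSub.idealMod 𝓘))
    (hL : ClSub.IsInverseOf L (ClSub.idealMod 𝓘)) (hamp : CohB1.IsAmple L)
    (hvan : ∀ Q : X.Modules, PicF.IsInvertible Q → ∃ m₀, ∀ m, m₀ ≤ m → ∀ i, i ≤ 1 →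
      Subsingleton (Coh.HH X (CohB1.tensorMod Q (CohB1.tensorPow (ClSub.idealMod 𝓘) m)) i))
    {Q : X.Modules} (hQ : PicF.IsInvertible Q) : Lef.HomToFormalBijective 𝓘 Q := by
  obtain ⟨Q', hQ', ⟨eQ⟩⟩ := H23.PicInv.exists_inverse hQ
  haveI := isEquivalence_tw hQ'
  haveI : (tw Q').Additive := Functor.additive_of_preserves_binary_products _
  let T := tw Q'
  let e : T.obj Q ≅ Coh.structureModule X := eQ
  obtain ⟨m₀, hm₀⟩ := hvan Q' hQ'
  refine LefLib.homToFormal_of_eventually m₀ fun n hn => ?_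
  let S := ShortComplex.mk (ClSub.idealModι (𝓘 ^ (n + 1))) (ClSub.toSubscheme (𝓘 ^ (n + 1))) (kernel.condition _)
  have hS : S.ShortExact := IntSym.shortExact_toSubscheme _
  have hvan : ∀ i, i ≤ 1 → Subsingleton (Coh.HH X (T.obj (ClSub.idealMod (𝓘 ^ (n + 1)))) i) := fun i hi => by
    obtain ⟨-, hcl⟩ := DepthTwist.cl_idealMod_pow 𝓘 hI n
    obtain ⟨u⟩ : Nonempty (CohB1.tensorMod Q' (CohB1.tensorPow (ClSub.idealMod 𝓘) (n + 1)) ≅
        T.obj (ClSub.idealMod (𝓘 ^ (n + 1)))) := cl_eq_iff.1 (by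
      show _ = PicF.cl (CohB1.tensorMod (ClSub.idealMod (𝓘 ^ (n + 1))) Q')
      rw [cl_tensor, cl_tensor, cl_tensorPow, hcl, mul_comm])
    exact QCoh.subsingleton_HH_of_iso u i (hm₀ (n + 1) (by omega) i hi)
  refine ⟨fun φ ψ he => ?_, fun ψ => ?_⟩
  · haveI := hS.mono_f
    have h0 : (φ - ψ) ≫ ClSub.toSubscheme (𝓘 ^ (n + 1)) = 0 := by
      rw [Preadditive.sub_comp, sub_eq_zero]; exact he
    let z : Q ⟶ ClSub.idealMod (𝓘 ^ (n + 1)) := kernel.lift _ (φ - ψ) h0
    haveI := LefLib.subsingleton_hom_unit (hvan 0 (by omega))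
    have hz : z = 0 := T.map_injective (by
      rw [Functor.map_zero, ← cancel_epi e.inv]
      exact Subsingleton.elim _ _)
    rw [← sub_eq_zero, ← kernel.lift_ι (ClSub.toSubscheme (𝓘 ^ (n + 1))) (φ - ψ) h0]
    show z ≫ _ = 0
    rw [hz, zero_comp]
  · obtain ⟨r, hr⟩ := QCoh.app_top_surjective_of_HH_one (hS.map_of_exact T) (hvan 1 le_rfl)
      (InvX.one (e.inv ≫ T.map ψ))
    refine ⟨T.preimage (e.hom ≫ InvX.ofSect (M := T.obj (Coh.structureModule X)) r), T.map_injective ?_⟩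
    rw [Functor.map_comp, Functor.map_preimage, Category.assoc, ← Iso.eq_inv_comp]
    refine S10945.hom_ext_top ?_
    rw [LefLib.one_comp, InvX.one_ofSect]
    exact hr

/-- Coherent modules have the Lefschetz property with respect to an ample divisor. -/
theorem homToFormal_coh {L : X.Modules} (hI : PicF.IsInvertible (ClSub.idealMod 𝓘))
    (hL : ClSub.IsInverseOf L (ClSub.idealMod 𝓘)) (hamp : CohB1.IsAmple L)
    (hvan : ∀ Q : X.Modules, PicF.IsInvertible Q → ∃ m₀, ∀ m, m₀ ≤ m → ∀ i, i ≤ 1 →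
      Subsingleton (Coh.HH X (CohB1.tensorMod Q (CohB1.tensorPow (ClSub.idealMod 𝓘) m)) i))
    {G : X.Modules} (hG : Coh.IsCoh G) : Lef.HomToFormalBijective 𝓘 G := by
  haveI : CompactSpace X := hamp.2.1
  haveI := AmpleX.isSeparated_of_isAmple hamp
  obtain ⟨L', hL', ⟨eL⟩⟩ := H23.PicInv.exists_inverse hamp.1
  have hinv : PicF.cl L * PicF.cl L' = 1 := by
    rw [← cl_tensor, H23.PicMul.one_def]; exact cl_eq_iff.2 ⟨eL⟩
  have cover : ∀ H : X.Modules, Coh.IsCoh H → ∃ (P : X.Modules) (q : P ⟶ H), Epi q ∧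
      FlatMod.IsFinLocFree P ∧ Lef.HomToFormalBijective 𝓘 P := fun H hH => by
    obtain ⟨m, hm⟩ := AmpleX.eventually_generated hamp hH.1 hH.2
    obtain ⟨G', φ, ι, s, hs⟩ := hm m le_rfl
    have hG' : Coh.IsCoh G' := SheafHomX.isCoh_of_iso φ.symm
      (AmpleVan.isCoh_tensor hH (AmpleVan.isCoh_invertible (InvX.isInvertible_tensorPow hamp.1 m)))
    obtain ⟨c, f, hf⟩ := exists_fin_generatedBy hG' s hs
    obtain ⟨g, hg⟩ := InvX.exists_epi_freeMod hf
    let R := CohB1.tensorPow L' m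
    have hR : PicF.IsInvertible R := InvX.isInvertible_tensorPow hL' _
    haveI := isEquivalence_tw hR
    obtain ⟨ψ⟩ : Nonempty ((tw R).obj G' ≅ H) := cl_eq_iff.1 (by
      show PicF.cl (CohB1.tensorMod G' R) = _
      rw [cl_tensor, cl_eq_iff.2 ⟨φ⟩, cl_tensor, cl_tensorPow, cl_tensorPow, mul_assoc, ← mul_pow, hinv,
        one_pow, mul_one])
    refine ⟨(tw R).obj (FlatMod.freeMod X c), (tw R).map g ≫ ψ.hom, epi_comp _ _,
      KFlatLib.isFinLocFree_tensor (KFlatLib.isFinLocFree_freeMod c) (H23.PullPush.isFinLocFree_of_isInvertible hR), ?_⟩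
    exact LefLib.homToFormal_of_cofan _ (isColimitCofanMkObjOfIsColimit (tw R) _ _
      (coproductIsCoproduct fun _ : Fin c => Coh.structureModule X)) fun j =>
      homToFormal_invertible hI hL hamp hvan
        (InvX.isInvertible_tensorMod InvX.isInvertible_structureModule hR)
  have inj : ∀ H : X.Modules, Coh.IsCoh H → ∀ φ ψ : H ⟶ Coh.structureModule X,
      (∀ n : ℕ, φ ≫ ClSub.toSubscheme (𝓘 ^ (n + 1)) = ψ ≫ ClSub.toSubscheme (𝓘 ^ (n + 1))) → φ = ψ :=
    fun H hH φ ψ he => by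
      obtain ⟨P, q, hq, -, hP⟩ := cover H hH
      exact (cancel_epi q).1 (hP.1 _ _ fun n => by rw [Category.assoc, Category.assoc, he n])
  refine ⟨inj G hG, fun y hy => ?_⟩
  obtain ⟨P, q, hq, hPl, hP⟩ := cover G hG
  obtain ⟨φ₀, hφ₀⟩ := hP.2 (fun n => q ≫ y n) fun n => by rw [Category.assoc]; exact congrArg (q ≫ ·) (hy n)
  have hK : kernel.ι q ≫ φ₀ = 0 := inj _ (QCoh.isCoh_kernel (CurveDeg.isCoh_of_isFinLocFree hPl) hG q) _ _
    fun n => by rw [Category.assoc, hφ₀ n, ← Category.assoc, kernel.condition, zero_comp, zero_comp]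
  refine ⟨Abelian.epiDesc q φ₀ hK, fun n => (cancel_epi q).1 ?_⟩
  rw [← Category.assoc, Abelian.comp_epiDesc, hφ₀ n]



end Groth.Agent.DepthRel
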