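import Groth.Agent.DepthTwist.IdealPow
import Groth.Agent.KFlatLib.Scheme.TensorStalk
import Groth.Agent.AssLib.Apply
import Groth.Agent.HomShX.Basic

/-!
# Powers of an invertible ideal regular on a module
-/

set_option linter.style.haveILetI false
set_option backward.isDefEq.respectTransparency false
set_option backward.isDefEq.respectTransparency.types false

universe u

open CategoryTheory CategoryTheory.Limits AlgebraicGeometry TopologicalSpace Opposite MonoidalCategory
open scoped TensorProduct

noncomputable section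

namespace Groth.Agent.DepthRel

open Groth.Agent

section Alg

variable {O N M : Type u} [CommRing O] [AddCommGroup N] [Module O N] [AddCommGroup M] [Module O M]

/-- Regularity of an ideal on a module. -/
def IdealReg (a : Ideal O) (M : Type u) [AddCommGroup M] [Module O M] : Prop :=
  ∀ m : M, (∀ r ∈ a, r • m = 0) → m = 0

theorem IdealReg.pow {a : Ideal O} (h : IdealReg a M) : ∀ n : ℕ, IdealReg (a ^ (n + 1)) M
  | 0 => by rwa [zero_add, pow_one]
  | n + 1 => fun m hm => h m fun r hr => h.pow n (r • m) fun s hs => by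
      rw [smul_smul]
      exact hm _ (by rw [pow_succ]; exact Ideal.mul_mem_mul hs hr)

theorem rTensor_injective_iff (e : O ≃ₗ[O] N) (φ : N →ₗ[O] O) :
    Function.Injective (φ.rTensor M) ↔ IdealReg (LinearMap.range φ) M := by
  let v := e 1
  have hv : ∀ y : N ⊗[O] M, ∃ m, y = v ⊗ₜ[O] m := fun y => by
    induction y using TensorProduct.induction_on with
    | zero => exact ⟨0, by rw [TensorProduct.tmul_zero]⟩
    | add p q hp hq =>
      obtain ⟨a, rfl⟩ := hp
      obtain ⟨b, rfl⟩ := hq
      exact ⟨a + b, (TensorProduct.tmul_add _ _ _).symm⟩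
    | tmul y m => exact ⟨e.symm y • m, by
        rw [← TensorProduct.smul_tmul, ← map_smul, smul_eq_mul, mul_one, e.apply_symm_apply]⟩
  have hval : ∀ m : M, TensorProduct.lid O M (φ.rTensor M (v ⊗ₜ[O] m)) = φ v • m := fun m => by
    rw [LinearMap.rTensor_tmul, TensorProduct.lid_tmul]
  constructor
  · intro hinj m hm
    have h0 : v ⊗ₜ[O] m = 0 := hinj ((TensorProduct.lid O M).injective (by
      rw [hval, hm _ (LinearMap.mem_range_self φ v), map_zero, map_zero]))
    simpa [v] using congrArg (fun y => TensorProduct.lid O M (e.symm.toLinearMap.rTensor M y)) h0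
  · intro hreg
    refine (injective_iff_map_eq_zero _).2 fun y hy => ?_
    obtain ⟨m, rfl⟩ := hv y
    have hm : φ v • m = 0 := by rw [← hval, hy, map_zero]
    rw [hreg m ?_, TensorProduct.tmul_zero]
    rintro r ⟨y, rfl⟩
    rw [show y = e.symm y • v by rw [← map_smul, smul_eq_mul, mul_one, e.apply_symm_apply], map_smul,
      smul_eq_mul, mul_smul, hm, smul_zero]

end Alg

variable {X : Scheme.{u}}

theorem stalk_injective_iff (D : X.IdealSheafData) (hD : PicF.IsInvertible (ClSub.idealMod D)) (F : X.Modules)
    (W : X.affineOpens) {x : X} (hx : x ∈ W.1) :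
    Function.Injective ((DerSch.stalkFunctor X x).map ((DCoh.tensorBi.map (ClSub.idealModι D)).app F)) ↔
      IdealReg (DepthTwist.stI D W hx) (F.presheaf.stalk x) := by
  let Φ := DerSch.stalkFunctor X x
  let u₀ := KFlatLib.stalkUnitEquiv x
  obtain ⟨e₀⟩ := H23.InvStalk.exists_stalk_equiv hD x
  let ψ : ((ClSub.idealMod D).presheaf.stalk x) →ₗ[X.presheaf.stalk x]
      ((Coh.structureModule X).presheaf.stalk x) := (Φ.map (ClSub.idealModι D)).hom
  have h1 : Function.Injective (Φ.map ((DCoh.tensorBi.map (ClSub.idealModι D)).app F)) ↔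
      Function.Injective (ψ.rTensor (F.presheaf.stalk x)) := by
    have h := (KFlatLib.stalkTensorRightIso F x).hom.naturality (ClSub.idealModι D)
    have hb := ConcreteCategory.bijective_of_isIso ((KFlatLib.stalkTensorRightIso F x).hom.app (ClSub.idealMod D))
    have hc := ConcreteCategory.bijective_of_isIso
      ((KFlatLib.stalkTensorRightIso F x).hom.app (Coh.structureModule X))
    have hcomm : ∀ t, (KFlatLib.stalkTensorRightIso F x).hom.app (Coh.structureModule X)
        (Φ.map ((DCoh.tensorBi.map (ClSub.idealModι D)).app F) t) =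
        ψ.rTensor (F.presheaf.stalk x) ((KFlatLib.stalkTensorRightIso F x).hom.app (ClSub.idealMod D) t) :=
      fun t => congrArg (fun g => g.hom t) h
    constructor
    · intro hi a b hab
      obtain ⟨a, rfl⟩ := hb.2 a
      obtain ⟨b, rfl⟩ := hb.2 b
      rw [hi (hc.1 ((hcomm a).trans (hab.trans (hcomm b).symm)))]
    · intro hi a b hab
      exact hb.1 (hi ((hcomm a).symm.trans ((congrArg _ hab).trans (hcomm b))))
  rw [h1]
  let φ := u₀.symm.toLinearMap.comp ψ
  have h2 : Function.Injective (ψ.rTensor (F.presheaf.stalk x)) ↔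
      Function.Injective (φ.rTensor (F.presheaf.stalk x)) := by
    rw [show φ.rTensor (F.presheaf.stalk x) =
      (LinearEquiv.rTensor (F.presheaf.stalk x) u₀.symm).toLinearMap.comp (ψ.rTensor _) from
        LinearMap.rTensor_comp _ _ _]
    exact ⟨fun h => (LinearEquiv.rTensor _ u₀.symm).injective.comp h, fun h => Function.Injective.of_comp h⟩
  rw [h2]
  refine (rTensor_injective_iff (M := F.presheaf.stalk x) e₀.symm φ).trans ?_
  have h3 : LinearMap.range φ = DepthTwist.stI D W hx := by
    rw [LinearMap.range_comp, show LinearMap.range ψ = _ from DepthTwist.range_idealModι D W hx,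
      Submodule.map_smul'', Submodule.map_top, LinearEquiv.range, Ideal.smul_eq_mul, Ideal.mul_top]
  rw [h3]

/-- The powers of an invertible ideal regular on a module are regular on it. -/
theorem mono_pow (D : X.IdealSheafData) (hD : PicF.IsInvertible (ClSub.idealMod D)) (F : X.Modules)
    [Mono ((DCoh.tensorBi.map (ClSub.idealModι D)).app F)] (n : ℕ) :
    Mono ((DCoh.tensorBi.map (ClSub.idealModι (D ^ (n + 1)))).app F) := by
  obtain ⟨hDn, -⟩ := DepthTwist.cl_idealMod_pow D hD n
  refine HomShX.mono_of_stalk _ fun x => ?_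
  obtain ⟨_, ⟨W, hW, rfl⟩, hx, -⟩ := X.isBasis_affineOpens.exists_subset_of_mem_open (Set.mem_univ x) isOpen_univ
  refine (stalk_injective_iff (D ^ (n + 1)) hDn F ⟨W, hW⟩ hx).2 ?_
  have h : DepthTwist.stI (D ^ (n + 1)) ⟨W, hW⟩ hx = DepthTwist.stI D ⟨W, hW⟩ hx ^ (n + 1) := by
    clear hDn
    induction n with
    | zero => rw [zero_add, pow_one, pow_one]
    | succ n ih =>
      rw [pow_succ _ (n + 1), pow_succ _ (n + 1), ← ih]
      simp only [DepthTwist.stI]
      rw [Scheme.IdealSheafData.ideal_mul, Pi.mul_apply, Ideal.map_mul]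
  rw [h]
  exact ((stalk_injective_iff D hD F ⟨W, hW⟩ hx).1
    ((ModuleCat.mono_iff_injective ((DerSch.stalkFunctor X x).map
      ((DCoh.tensorBi.map (ClSub.idealModι D)).app F))).1 inferInstance)).pow n

end Groth.Agent.DepthRel
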