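import Groth.Agent.W4Lib.Flat
import Groth.Agent.FlatSyz5.Resolution
import Groth.Agent.S1393
import Mathlib

/-!
# Syzygies of flat modules, modulo the maximal ideal of the base
-/

set_option autoImplicit false
set_option linter.style.haveILetI false
set_option backward.isDefEq.respectTransparency false
set_option backward.isDefEq.respectTransparency.types false

universe u

open CategoryTheory CategoryTheory.Limits IsLocalRing TensorProduct

noncomputable section

namespace Groth.Agent.DepthRel

variable {R O : Type u} [CommRing R] [CommRing O] [Algebra R O]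
  {K Q M : Type u} [AddCommGroup K] [AddCommGroup Q] [AddCommGroup M]
  [Module O K] [Module O Q] [Module O M] [Module R K] [Module R Q] [Module R M]
  [IsScalarTower R O K] [IsScalarTower R O Q] [IsScalarTower R O M]

/-- Reduction of a linear map modulo an ideal. -/
def redMap (J : Ideal O) (i : K →ₗ[O] Q) :
    (K ⧸ J • (⊤ : Submodule O K)) →ₗ[O ⧸ J] (Q ⧸ J • (⊤ : Submodule O Q)) :=
  LinearMap.extendScalarsOfSurjective Ideal.Quotient.mk_surjective
    (Submodule.mapQ _ _ i (Submodule.map_le_iff_le_comap.1
      ((Submodule.map_smul'' J ⊤ i).trans_le (Submodule.smul_mono le_rfl le_top))))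

@[simp] theorem redMap_mk (J : Ideal O) (i : K →ₗ[O] Q) (k : K) :
    redMap J i (Submodule.Quotient.mk k) = Submodule.Quotient.mk (i k) := rfl

theorem mem_smul_map_iff (I : Ideal R) (k : K) :
    k ∈ I.map (algebraMap R O) • (⊤ : Submodule O K) ↔ (1 : R ⧸ I) ⊗ₜ[R] k = 0 := by
  constructor
  · intro hk
    have h : k ∈ (I • (⊤ : Submodule R K)) := by
      rw [← Submodule.restrictScalars_top R O K, ← Ideal.smul_restrictScalars]
      exact hk
    have := congrArg (TensorProduct.quotTensorEquivQuotSMul K I).symm
      ((Submodule.Quotient.mk_eq_zero _).2 h)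
    rwa [map_zero, TensorProduct.quotTensorEquivQuotSMul_symm_mk] at this
  · intro hk
    have := congrArg (TensorProduct.quotTensorEquivQuotSMul K I) hk
    rw [map_zero, ← map_one (Ideal.Quotient.mk I), TensorProduct.quotTensorEquivQuotSMul_mk_tmul,
      one_smul, Submodule.Quotient.mk_eq_zero] at this
    rw [← Submodule.restrictScalars_top R O K, ← Ideal.smul_restrictScalars] at this
    exact this

/-- A syzygy of a flat module stays a syzygy modulo the extended ideal. -/
theorem redMap_injective (I : Ideal R) [Module.Flat R M] (i : K →ₗ[O] Q) (q : Q →ₗ[O] M)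
    (hi : Function.Injective i) (hex : Function.Exact i q) (hq : Function.Surjective q) :
    Function.Injective (redMap (I.map (algebraMap R O)) i) := by
  refine (injective_iff_map_eq_zero _).2 fun x => Submodule.Quotient.induction_on _ x fun k hk => ?_
  rw [redMap_mk, Submodule.Quotient.mk_eq_zero, mem_smul_map_iff] at hk
  rw [Submodule.Quotient.mk_eq_zero, mem_smul_map_iff]
  exact W4Lib.lTensor_injective_of_flat_quotient (f := i.restrictScalars R) (g := q.restrictScalars R)
    hi hex hq (R ⧸ I) (by rw [LinearMap.lTensor_tmul, map_zero]; exact hk)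

theorem redMap_exact (J : Ideal O) (i : K →ₗ[O] Q) (q : Q →ₗ[O] M) (hex : Function.Exact i q)
    (hq : Function.Surjective q) : Function.Exact (redMap J i) (redMap J q) := by
  intro x
  refine Submodule.Quotient.induction_on _ x fun v => ?_
  constructor
  · intro hv
    rw [redMap_mk, Submodule.Quotient.mk_eq_zero] at hv
    have : q v ∈ (J • (⊤ : Submodule O Q)).map q := by
      rw [Submodule.map_smul'', Submodule.map_top, LinearMap.range_eq_top.2 hq]; exact hv
    obtain ⟨w, hw, hwv⟩ := this
    obtain ⟨k, hk⟩ := (hex (v - w)).1 (by rw [map_sub, hwv, sub_self])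
    refine ⟨Submodule.Quotient.mk k, ?_⟩
    rw [redMap_mk, hk, Submodule.Quotient.mk_sub, (Submodule.Quotient.mk_eq_zero _).2 hw, sub_zero]
  · rintro ⟨y, hy⟩
    revert hy
    refine Submodule.Quotient.induction_on _ y fun k hy => ?_
    rw [← hy, redMap_mk, redMap_mk, hex.apply_apply_eq_zero, Submodule.Quotient.mk_zero]

/-- Projective dimension of the reductions drops along a syzygy of a flat module. -/
theorem pd_red_of_syz (I : Ideal R) [Module.Flat R M] (i : K →ₗ[O] Q) (q : Q →ₗ[O] M)
    (hi : Function.Injective i) (hex : Function.Exact i q) (hq : Function.Surjective q)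
    [Module.Free O Q] (j : ℕ)
    (h : HasProjectiveDimensionLT
      (ModuleCat.of (O ⧸ I.map (algebraMap R O)) (M ⧸ I.map (algebraMap R O) • (⊤ : Submodule O M))) (j + 2)) :
    HasProjectiveDimensionLT
      (ModuleCat.of (O ⧸ I.map (algebraMap R O)) (K ⧸ I.map (algebraMap R O) • (⊤ : Submodule O K))) (j + 1) := by
  set J := I.map (algebraMap R O)
  haveI : Module.Free (O ⧸ J) (Q ⧸ J • (⊤ : Submodule O Q)) :=
    Module.Free.of_equiv ((TensorProduct.quotTensorEquivQuotSMul Q J).extendScalarsOfSurjective
      Ideal.Quotient.mk_surjective)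
  let Q' := ModuleCat.of (O ⧸ J) (Q ⧸ J • (⊤ : Submodule O Q))
  have h2 : HasProjectiveDimensionLT Q' 1 := projective_iff_hasProjectiveDimensionLT_one.1
    ((IsProjective.iff_projective (R := O ⧸ J) (Q ⧸ J • (⊤ : Submodule O Q))).1 inferInstance)
  let S : ShortComplex (ModuleCat.{u} (O ⧸ J)) :=
    ShortComplex.mk (ModuleCat.ofHom (redMap J i)) (ModuleCat.ofHom (redMap J q))
      (ModuleCat.hom_ext (LinearMap.ext (redMap_exact J i q hex hq).apply_apply_eq_zero))
  have hS : S.ShortExact :=
    { exact := (ShortComplex.ShortExact.moduleCat_exact_iff_function_exact _).2 (redMap_exact J i q hex hq)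
      mono_f := (ModuleCat.mono_iff_injective _).2 (redMap_injective I i q hi hex hq)
      epi_g := (ModuleCat.epi_iff_surjective _).2 fun x => Submodule.Quotient.induction_on _ x fun m => by
        obtain ⟨v, rfl⟩ := hq m
        exact ⟨Submodule.Quotient.mk v, rfl⟩ }
  haveI := h2
  exact hS.hasProjectiveDimensionLT_X₁ (j + 1) (hasProjectiveDimensionLT_of_ge Q' 1 (j + 1) (by omega)) h

/-- A flat module whose reduction is projective is free. -/
theorem free_of_pd_red [IsLocalRing R] [IsLocalRing O] [IsLocalHom (algebraMap R O)] [Module.Flat R M]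
    [Module.FinitePresentation O M]
    (h : HasProjectiveDimensionLT
      (ModuleCat.of (O ⧸ (maximalIdeal R).map (algebraMap R O))
        (M ⧸ (maximalIdeal R).map (algebraMap R O) • (⊤ : Submodule O M))) 1) : Module.Free O M := by
  set J := (maximalIdeal R).map (algebraMap R O)
  haveI : Module.Projective (O ⧸ J) (M ⧸ J • (⊤ : Submodule O M)) :=
    (IsProjective.iff_projective (R := O ⧸ J) (M ⧸ J • (⊤ : Submodule O M))).2
      (projective_iff_hasProjectiveDimensionLT_one.2 h)
  exact S1393.free_of_fibre (A := R) inferInstance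

theorem flat_of_syz [Module.Flat R Q] [Module.Flat R M] (i : K →ₗ[O] Q) (q : Q →ₗ[O] M)
    (hi : Function.Injective i) (hex : Function.Exact i q) (hq : Function.Surjective q) : Module.Flat R K := by
  haveI := FlatSyz5.flat_ker (A := R) (q.restrictScalars R) hq
  exact Module.Flat.of_linearEquiv ((LinearEquiv.ofInjective (i.restrictScalars R) hi).trans
    (LinearEquiv.ofEq _ _ ((LinearMap.exact_iff (f := i.restrictScalars R) (g := q.restrictScalars R)).1 hex).symm))

end Groth.Agent.DepthRel
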